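import Mathlib
import Cfsg.Agent.Lib.Helper42.Fusion
import Cfsg.Agent.Lib.Helper75.Frobenius
import Cfsg.Agent.Lib.Helper14.Thompson

/-!
# Tools for groups with dihedral Sylow 2-subgroups (helper43)

* `exists_kleinFour`: two distinct commuting involutions span a Klein four-group.
* `isKleinFour_of_mulEquiv`, `isKleinFour_cj`: transport of `IsKleinFour`.
* `npc_of_cyclic_sylow`: a cyclic Sylow 2-subgroup gives a normal 2-complement (`NPC 2`).
* `npc_of_normal_index_pow`: `NPC 2` lifts from a normal subgroup of 2-power index.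
* `exists_normal_pow_index_avoiding`: the intersection `X0` of all normal subgroups of index 2.
-/

set_option autoImplicit false

namespace Cfsg.Agent.Lib.Helper43

open Cfsg.Agent.Lib.Helper42 Cfsg.Agent.Lib.Helper75 Cfsg.Agent.Lib.Helper14

/-- Two distinct commuting involutions span a Klein four-group `{1, a, b, ab}`. -/
theorem exists_kleinFour {G : Type*} [Group G] (a b : G) (ha : a ≠ 1) (hb : b ≠ 1) (hab : a ≠ b)
    (ha2 : a * a = 1) (hb2 : b * b = 1) (hc : a * b = b * a) :
    ∃ U : Subgroup G, (∀ x, x ∈ U ↔ x = 1 ∨ x = a ∨ x = b ∨ x = a * b) ∧ IsKleinFour U := by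
  have hba : b * a = a * b := hc.symm
  have ha2' : ∀ x, a * (a * x) = x := fun x => by rw [← mul_assoc, ha2, one_mul]
  have hb2' : ∀ x, b * (b * x) = x := fun x => by rw [← mul_assoc, hb2, one_mul]
  have hba' : ∀ x, b * (a * x) = a * (b * x) := fun x => by
    rw [← mul_assoc, hba, mul_assoc]
  have hai : a⁻¹ = a := inv_eq_of_mul_eq_one_right ha2
  have hbi : b⁻¹ = b := inv_eq_of_mul_eq_one_right hb2
  let U : Subgroup G :=
    { carrier := {x | x = 1 ∨ x = a ∨ x = b ∨ x = a * b}
      one_mem' := Or.inl rfl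
      mul_mem' := by
        rintro x y (rfl | rfl | rfl | rfl) (rfl | rfl | rfl | rfl) <;>
          simp [mul_assoc, ha2, hb2, hba, ha2', hba']
      inv_mem' := by
        rintro x (rfl | rfl | rfl | rfl) <;> simp [hai, hbi, hba] }
  have hmem : ∀ x, x ∈ U ↔ x = 1 ∨ x = a ∨ x = b ∨ x = a * b := fun x => Iff.rfl
  refine ⟨U, hmem, ?_⟩
  have hab1 : a * b ≠ 1 := by
    intro h
    apply hab
    have : b = a⁻¹ := (inv_eq_of_mul_eq_one_right h).symm
    rw [this, hai]
  have hcard : Nat.card U = 4 := by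
    classical
    have h1 : (U : Set G) = ((({1, a, b, a * b} : Finset G)) : Set G) := by
      ext x; simp [hmem]
    have h2 : Nat.card U = Set.ncard (U : Set G) := Nat.card_coe_set_eq (U : Set G)
    rw [h2, h1, Set.ncard_coe_finset]
    rw [Finset.card_insert_of_notMem, Finset.card_insert_of_notMem,
      Finset.card_insert_of_notMem, Finset.card_singleton]
    all_goals simp [ha, hb, hab, Ne.symm ha, Ne.symm hb, Ne.symm hab1]
  have hexp : Monoid.exponent U = 2 := by
    have hdvd : Monoid.exponent U ∣ 2 := by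
      apply Monoid.exponent_dvd_of_forall_pow_eq_one
      rintro ⟨x, hx⟩
      apply Subtype.ext
      rw [Subgroup.coe_pow, pow_two]
      rcases (hmem x).mp hx with rfl | rfl | rfl | rfl
      · simp
      · simpa using ha2
      · simpa using hb2
      · simp [mul_assoc, ha2, hb2, hba']
    rcases (Nat.dvd_prime Nat.prime_two).mp hdvd with h | h
    · exfalso
      rw [Monoid.exp_eq_one_iff] at h
      have : (⟨a, (hmem a).mpr (Or.inr (Or.inl rfl))⟩ : U) = 1 := Subsingleton.elim _ _
      exact ha (congrArg Subtype.val this)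
    · exact h
  exact { card_four := hcard, exponent_two := hexp }

theorem isKleinFour_of_mulEquiv {G H : Type*} [Group G] [Group H] (e : G ≃* H)
    (hG : IsKleinFour G) : IsKleinFour H :=
  { card_four := by rw [← Nat.card_congr e.toEquiv]; exact hG.card_four
    exponent_two := by rw [← Monoid.exponent_eq_of_mulEquiv e]; exact hG.exponent_two }

theorem isKleinFour_cj {G : Type*} [Group G] (g : G) (U : Subgroup G) (hU : IsKleinFour U) :
    IsKleinFour (cj g U) :=
  isKleinFour_of_mulEquiv
    (U.equivMapOfInjective (MulAut.conj g).toMonoidHom (MulAut.conj g).injective) hU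

instance fact_two_prime : Fact (Nat.Prime 2) := ⟨Nat.prime_two⟩

/-- A finite group with a cyclic Sylow 2-subgroup has a normal 2-complement. -/
theorem npc_of_cyclic_sylow {N : Type*} [Group N] [Finite N] (T : Sylow 2 N)
    (hT : IsCyclic (T : Subgroup N)) : NPC 2 N := by
  by_cases h2 : 2 ∣ Nat.card N
  · have hmin : (Nat.card N).minFac = 2 := (Nat.minFac_eq_two_iff _).mpr h2
    have hc := IsCyclic.isComplement' hmin hT
    refine ⟨(MonoidHom.transferSylow T (hT.normalizer_le_centralizer hmin)).ker, inferInstance,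
      ?_, ?_⟩
    · have := MonoidHom.not_dvd_card_ker_transferSylow T (hT.normalizer_le_centralizer hmin)
      exact ((Nat.Prime.coprime_iff_not_dvd Nat.prime_two).mpr this).symm
    · obtain ⟨k, hk⟩ := T.2.exists_card_eq
      exact ⟨k, by rw [← hk]; exact hc.symm.index_eq_card⟩
  · refine ⟨⊤, inferInstance, ?_, 0, by simp⟩
    rw [Subgroup.card_top]
    exact ((Nat.Prime.coprime_iff_not_dvd Nat.prime_two).mpr h2).symm

/-- A normal 2-complement of a normal subgroup of 2-power index is a normal 2-complement. -/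
theorem npc_of_normal_index_pow {X : Type*} [Group X] [Finite X] (N : Subgroup X) [hN : N.Normal]
    (i : ℕ) (hi : N.index = 2 ^ i) (h : NPC 2 N) : NPC 2 X := by
  obtain ⟨K, hKn, hKc, k, hk⟩ := h
  have hmemK : ∀ n : N, n ^ Nat.card K = 1 → n ∈ K := by
    intro n hn
    have h1 : n ^ (2 ^ k) ∈ K := by rw [← hk]; exact K.pow_index_mem n
    have h2 : orderOf n ∣ Nat.card K := orderOf_dvd_of_pow_eq_one hn
    have h3 : (2 ^ k).Coprime (orderOf n) :=
      Nat.Coprime.coprime_dvd_right h2 (Nat.Coprime.pow_left k hKc.symm)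
    obtain ⟨j, hj⟩ := exists_pow_eq_self_of_coprime h3
    rw [← hj]
    exact K.pow_mem h1 j
  refine ⟨K.map N.subtype, ⟨?_⟩, ?_, k + i, ?_⟩
  · rintro x ⟨n, hn, rfl⟩ g
    have hgn : g * (n : X) * g⁻¹ ∈ N := hN.conj_mem _ n.2 g
    refine ⟨⟨g * (n : X) * g⁻¹, hgn⟩, ?_, rfl⟩
    apply hmemK
    apply Subtype.ext
    rw [Subgroup.coe_pow]
    show (g * (n : X) * g⁻¹) ^ Nat.card K = 1
    rw [conj_pow]
    have : (n : X) ^ Nat.card K = 1 := by
      have h5 : (⟨n, hn⟩ : K) ^ Nat.card K = 1 := pow_card_eq_one'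
      have h6 : (n : N) ^ Nat.card K = 1 := congrArg (fun y : K => (y : N)) h5
      have h8 : ((n ^ Nat.card K : N) : X) = 1 := by rw [h6]; rfl
      rw [Subgroup.coe_pow] at h8
      exact h8
    rw [this]; group
  · rw [Nat.card_congr (K.equivMapOfInjective N.subtype N.subtype_injective).toEquiv.symm]
    exact hKc
  · rw [Subgroup.index_map_subtype, hk, hi, pow_add]

/-- The intersection `X0` of all normal subgroups of index 2 is normal of 2-power index. -/
theorem exists_normal_two_pow_index (X : Type*) [Group X] [Finite X] :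
    ∃ X0 : Subgroup X, X0.Normal ∧ (∃ i, X0.index = 2 ^ i) ∧
      ∀ M : Subgroup X, M.Normal → M.index = 2 → X0 ≤ M := by
  let X0 : Subgroup X := sInf {M : Subgroup X | M.Normal ∧ M.index = 2}
  have hmem : ∀ x, x ∈ X0 ↔ ∀ M : Subgroup X, M.Normal → M.index = 2 → x ∈ M := by
    intro x
    simp only [X0, Subgroup.mem_sInf, Set.mem_ofPred_eq, and_imp]
  have hnorm : X0.Normal :=
    ⟨fun x hx g => (hmem _).mpr fun M hM hMi => hM.conj_mem x ((hmem x).mp hx M hM hMi) g⟩
  refine ⟨X0, hnorm, ?_, fun M hM hMi x hx => (hmem x).mp hx M hM hMi⟩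
  have hsq : ∀ g : X, g ^ 2 ∈ X0 := fun g => (hmem _).mpr fun M hM hMi => by
    have := hM
    rw [← hMi]; exact M.pow_index_mem g
  have hP : IsPGroup 2 (X ⧸ X0) := by
    intro q
    induction q using QuotientGroup.induction_on with
    | H g =>
      refine ⟨1, ?_⟩
      rw [pow_one, ← QuotientGroup.mk_pow, QuotientGroup.eq_one_iff]
      exact hsq g
  obtain ⟨i, hi⟩ := hP.exists_card_eq
  exact ⟨i, by rw [Subgroup.index_eq_card]; exact hi⟩

theorem kleinFour_comm {G : Type*} [Group G] (U : Subgroup G) (hU : IsKleinFour U) (x y : G)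
    (hx : x ∈ U) (hy : y ∈ U) : x * y = y * x :=
  congrArg Subtype.val
    ((IsKleinFour.isMulCommutative (G := U)).is_comm.comm ⟨x, hx⟩ ⟨y, hy⟩)

open DihedralGroup in
/-- A rotation of order at most two is central in the dihedral group. -/
theorem dih_r_central {n : ℕ} (j : ZMod n) (hj : j + j = 0) (d : DihedralGroup n) :
    r j * d = d * r j := by
  cases d with
  | r i => rw [r_mul_r, r_mul_r, add_comm]
  | sr i => rw [r_mul_sr, sr_mul_r]; congr 1; linear_combination (-1 : ZMod n) * hj

open DihedralGroup in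
theorem dih_conj_sr {n : ℕ} (κ i : ZMod n) :
    r κ * sr i * (r κ)⁻¹ = sr i * r (-(κ + κ)) := by
  rw [inv_r, r_mul_sr, sr_mul_r, sr_mul_r]; congr 1; ring

end Cfsg.Agent.Lib.Helper43
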