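import Mathlib
import Cfsg.Agent.Lib.Helper43.DihSyl

/-!
# More tools for groups with dihedral Sylow 2-subgroups (helper43)

* `kleinFour_mem`: the elements of a four-group `U` are `1, a, b, ab`.
* `kleinFour_conj_of_three_dvd`: if `3 ∣ |N(U) : C(U)|` the involutions of `U` are conjugate.
* `exists_conj_mem_sylow_of_involution`: every involution is conjugate into a Sylow 2-subgroup.
* `exists_dih_emb`, `dih_cyclic_max`, `dih_involution`: the embedded dihedral Sylow 2-subgroup.
-/

set_option autoImplicit false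

namespace Cfsg.Agent.Lib.Helper43

open Cfsg.Agent.Lib.Helper42 Cfsg.Agent.Lib.Helper75 Cfsg.Agent.Lib.Helper14

instance fact_three_prime : Fact (Nat.Prime 3) := ⟨Nat.prime_three⟩

theorem kleinFour_mul_self {X : Type*} [Group X] (U : Subgroup X) (hU : IsKleinFour U) (x : X)
    (hx : x ∈ U) : x * x = 1 :=
  congrArg Subtype.val (IsKleinFour.mul_self (⟨x, hx⟩ : U))

theorem kleinFour_mem {X : Type*} [Group X] (U : Subgroup X) (hU : IsKleinFour U) (a b : X)
    (ha : a ∈ U) (hb : b ∈ U) (ha1 : a ≠ 1) (hb1 : b ≠ 1) (hab : a ≠ b) (x : X) (hx : x ∈ U) :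
    x = 1 ∨ x = a ∨ x = b ∨ x = a * b := by
  classical
  have := IsKleinFour.instFinite (G := U)
  have := Fintype.ofFinite U
  have h := IsKleinFour.eq_finset_univ (G := U) (x := ⟨a, ha⟩) (y := ⟨b, hb⟩)
    (fun h => ha1 (congrArg Subtype.val h)) (fun h => hb1 (congrArg Subtype.val h))
    (fun h => hab (congrArg Subtype.val h))
  have hx' : (⟨x, hx⟩ : U) ∈ (Finset.univ : Finset U) := Finset.mem_univ _
  rw [← h] at hx'
  simp only [Finset.mem_insert, Finset.mem_singleton] at hx'
  rcases hx' with h1 | h1 | h1 | h1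
  · exact Or.inr (Or.inr (Or.inr (congrArg Subtype.val h1)))
  · exact Or.inr (Or.inl (congrArg Subtype.val h1))
  · exact Or.inr (Or.inr (Or.inl (congrArg Subtype.val h1)))
  · exact Or.inl (congrArg Subtype.val h1)

/-- If `3` divides `|N(U) : C(U)|` for a four-group `U`, there is a 3-element of `N(U)` outside
`C(U)`. -/
theorem exists_three_element {X : Type*} [Group X] [Finite X] (U : Subgroup X)
    (h3 : 3 ∣ (Subgroup.centralizer (U : Set X)).relIndex (Subgroup.normalizer (U : Set X))) :
    ∃ g ∈ Subgroup.normalizer (U : Set X), g ∉ Subgroup.centralizer (U : Set X) ∧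
      ∃ j : ℕ, g ^ (3 ^ j) = 1 := by
  by_contra hcon
  push Not at hcon
  obtain ⟨P⟩ : Nonempty (Sylow 3 (Subgroup.normalizer (U : Set X))) := inferInstance
  have hle : (P : Subgroup (Subgroup.normalizer (U : Set X))) ≤
      (Subgroup.centralizer (U : Set X)).subgroupOf (Subgroup.normalizer (U : Set X)) := by
    intro x hx
    rw [Subgroup.mem_subgroupOf]
    by_contra hxc
    obtain ⟨j, hj⟩ := P.2 ⟨x, hx⟩
    have h1 : x ^ (3 ^ j) = 1 := congrArg Subtype.val hj
    have h2 : (x : X) ^ (3 ^ j) = 1 := by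
      have := congrArg Subtype.val h1
      rwa [Subgroup.coe_pow] at this
    exact hcon x x.2 hxc j h2
  have hdvd := Subgroup.index_dvd_of_le hle
  exact P.not_dvd_index (h3.trans hdvd)

/-- If `3 ∣ |N(U) : C(U)|` for a four-group `U`, then all involutions of `U` are conjugate. -/
theorem kleinFour_conj_of_three_dvd {X : Type*} [Group X] [Finite X] (U : Subgroup X)
    (hU : IsKleinFour U)
    (h3 : 3 ∣ (Subgroup.centralizer (U : Set X)).relIndex (Subgroup.normalizer (U : Set X)))
    (a b : X) (ha : a ∈ U) (hb : b ∈ U) (ha1 : a ≠ 1) (hb1 : b ≠ 1) : IsConj a b := by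
  obtain ⟨g, hgN, hgC, j, hgj⟩ := exists_three_element U h3
  have hconjU : ∀ x, x ∈ U → g * x * g⁻¹ ∈ U := fun x hx =>
    (Subgroup.mem_normalizer_iff.mp hgN x).mp hx
  have hcop : (2 : ℕ).Coprime (orderOf g) := by
    have h1 : orderOf g ∣ 3 ^ j := orderOf_dvd_of_pow_eq_one hgj
    exact Nat.Coprime.coprime_dvd_right h1 (Nat.Coprime.pow_right j (by norm_num))
  obtain ⟨t, ht⟩ := exists_pow_eq_self_of_coprime hcop
  -- no involution of `U` is fixed by `g`
  have hfix : ∀ a ∈ U, a ≠ 1 → g * a * g⁻¹ ≠ a := by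
    intro a ha ha1 hga
    have hex : ∃ b ∈ U, b * g ≠ g * b := by
      by_contra hall
      push Not at hall
      exact hgC (Subgroup.mem_centralizer_iff.mpr hall)
    obtain ⟨b, hb, hbg⟩ := hex
    have hb1 : b ≠ 1 := by rintro rfl; simp at hbg
    have hba : a ≠ b := by
      rintro rfl
      apply hbg
      calc a * g = g * a * g⁻¹ * g := by rw [hga]
        _ = g * a := by group
    rcases kleinFour_mem U hU a b ha hb ha1 hb1 hba _ (hconjU b hb) with h | h | h | h
    · apply hb1
      have : b = g⁻¹ * (g * b * g⁻¹) * g := by group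
      rw [this, h]; group
    · apply hba
      have h1 : g * b * g⁻¹ = g * a * g⁻¹ := by rw [h, hga]
      exact (mul_left_cancel (mul_right_cancel h1)).symm
    · apply hbg
      calc b * g = g * b * g⁻¹ * g := by rw [h]
        _ = g * b := by group
    · have h5 : (g * g) * b = b * (g * g) := by
        have h6 : g * (g * b * g⁻¹) * g⁻¹ = b := by
          rw [h]
          have : g * (a * b) * g⁻¹ = (g * a * g⁻¹) * (g * b * g⁻¹) := by group
          rw [this, hga, h, ← mul_assoc, kleinFour_mul_self U hU a ha, one_mul]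
        calc (g * g) * b = g * (g * b * g⁻¹) * g⁻¹ * (g * g) := by group
          _ = b * (g * g) := by rw [h6]
      have h7 : g * b = b * g := by
        have : Commute (g ^ 2) b := by rw [pow_two]; exact h5
        have h8 : Commute ((g ^ 2) ^ t) b := this.pow_left t
        rw [ht] at h8
        exact h8
      exact hbg h7.symm
  by_cases hab : a = b
  · rw [hab]
  have habU : a * b ∈ U := U.mul_mem ha hb
  have hab1 : a * b ≠ 1 := by
    intro h
    apply hab
    have h1 : a * b = a * a := by rw [h, kleinFour_mul_self U hU a ha]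
    exact (mul_left_cancel h1).symm
  rcases kleinFour_mem U hU a b ha hb ha1 hb1 hab _ (hconjU a ha) with h | h | h | h
  · exfalso; apply ha1
    have : a = g⁻¹ * (g * a * g⁻¹) * g := by group
    rw [this, h]; group
  · exact absurd h (hfix a ha ha1)
  · exact isConj_iff.mpr ⟨g, h⟩
  · rcases kleinFour_mem U hU a b ha hb ha1 hb1 hab _ (hconjU (a * b) habU) with h' | h' | h' | h'
    · exfalso; apply hab1
      have : a * b = g⁻¹ * (g * (a * b) * g⁻¹) * g := by group
      rw [this, h']; group
    · exfalso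
      apply hfix b hb hb1
      have h9 : b = a * (a * b) := by
        rw [← mul_assoc, kleinFour_mul_self U hU a ha, one_mul]
      have : g * b * g⁻¹ = (g * a * g⁻¹) * (g * (a * b) * g⁻¹) := by
        conv_lhs => rw [h9]
        group
      rw [this, h, h', kleinFour_comm U hU a b ha hb, mul_assoc,
        kleinFour_mul_self U hU a ha, mul_one]
    · refine isConj_iff.mpr ⟨g * g, ?_⟩
      calc g * g * a * (g * g)⁻¹ = g * (g * a * g⁻¹) * g⁻¹ := by group
        _ = b := by rw [h, h']
    · exact absurd h' (hfix (a * b) habU hab1)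

/-- Every involution is conjugate into a given Sylow 2-subgroup. -/
theorem exists_conj_mem_sylow_of_involution {X : Type*} [Group X] [Finite X] (S : Sylow 2 X)
    (t : X) (ht : orderOf t = 2) : ∃ g : X, g * t * g⁻¹ ∈ (S : Subgroup X) := by
  have hQ : IsPGroup 2 (Subgroup.zpowers t) := by
    apply IsPGroup.of_card (n := 1)
    rw [Nat.card_zpowers, ht, pow_one]
  obtain ⟨g, hg⟩ := exists_conj_le_sylow S hQ
  exact ⟨g, hg (conj_mem_cj (Subgroup.mem_zpowers t))⟩

/-- In `ZMod (2k)` the only nonzero element of additive order two is `k`. -/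
theorem zmod_two_torsion {n k : ℕ} (hk : 0 < k) (hn : n = 2 * k) (j : ZMod n) (hj : j + j = 0)
    (hj0 : j ≠ 0) : j = (k : ZMod n) := by
  have hn0 : NeZero n := ⟨by omega⟩
  have h1 : ((j.val + j.val : ℕ) : ZMod n) = 0 := by
    push_cast; rw [ZMod.natCast_zmod_val]; exact hj
  rw [ZMod.natCast_eq_zero_iff] at h1
  have h2 : j.val < n := ZMod.val_lt j
  have h3 : j.val ≠ 0 := by
    intro h; apply hj0; rw [← ZMod.natCast_zmod_val j, h]; simp
  obtain ⟨c, hc⟩ := h1
  have h4 : c = 1 := by
    rcases c with _ | _ | c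
    · omega
    · rfl
    · exfalso
      have : n * (c + 1 + 1) = n * c + n + n := by ring
      omega
  subst h4
  have h5 : j.val = k := by omega
  rw [← ZMod.natCast_zmod_val j, h5]

theorem zmod_half_add_half {n k : ℕ} (hn : n = 2 * k) : (k : ZMod n) + (k : ZMod n) = 0 := by
  have : ((2 * k : ℕ) : ZMod n) = 0 := by rw [← hn]; exact ZMod.natCast_self n
  push_cast at this
  linear_combination this

theorem zmod_half_ne_zero {n k : ℕ} (hk : 0 < k) (hn : n = 2 * k) : (k : ZMod n) ≠ 0 := by
  intro h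
  rw [ZMod.natCast_eq_zero_iff] at h
  have := Nat.le_of_dvd hk h
  omega

open DihedralGroup in
/-- The involutions of the dihedral group of order `2n`, `n = 2k`. -/
theorem dih_involution {n k : ℕ} (hk : 0 < k) (hn : n = 2 * k) (d : DihedralGroup n)
    (hd : orderOf d = 2) : d = r (k : ZMod n) ∨ ∃ i, d = sr i := by
  cases d with
  | r j =>
    left
    have h1 : r j * r j = (1 : DihedralGroup n) := by
      rw [← pow_two, ← hd]; exact pow_orderOf_eq_one _
    rw [r_mul_r, one_def] at h1
    have h2 : j + j = 0 := r.inj h1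
    have h3 : j ≠ 0 := by
      rintro rfl
      rw [r_zero, orderOf_one] at hd
      omega
    rw [zmod_two_torsion hk hn j h2 h3]
  | sr i => exact Or.inr ⟨i, rfl⟩

open DihedralGroup in
theorem dih_orderOf_r_half {n k : ℕ} (hk : 0 < k) (hn : n = 2 * k) :
    orderOf (r (k : ZMod n) : DihedralGroup n) = 2 := by
  apply orderOf_eq_prime
  · rw [pow_two, r_mul_r, zmod_half_add_half hn, r_zero]
  · rw [one_def]; intro h; exact zmod_half_ne_zero hk hn (r.inj h)

/-- The dihedral Sylow 2-subgroup as the image of an injective homomorphism. -/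
theorem exists_dih_emb {X : Type*} [Group X] [Finite X] (S : Sylow 2 X) (m : ℕ) (hm : 2 ≤ m)
    (eS : (S : Subgroup X) ≃* DihedralGroup m) :
    ∃ k : ℕ, 0 < k ∧ m = 2 * k ∧ ∃ ι : DihedralGroup m →* X, Function.Injective ι ∧
      (∀ d, ι d ∈ (S : Subgroup X)) ∧ (∀ x ∈ (S : Subgroup X), ∃ d, ι d = x) := by
  obtain ⟨a, ha⟩ := S.2.exists_card_eq
  have hc : Nat.card (S : Subgroup X) = 2 * m := by
    rw [Nat.card_congr eS.toEquiv, DihedralGroup.nat_card]
  have hk : ∃ k, 0 < k ∧ m = 2 * k := by
    rw [hc] at ha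
    match a, ha with
    | 0, ha => omega
    | 1, ha => omega
    | (b + 2), ha =>
      refine ⟨2 ^ b, pow_pos (by norm_num) b, ?_⟩
      rw [pow_add] at ha; omega
  obtain ⟨k, hk0, hmk⟩ := hk
  refine ⟨k, hk0, hmk, (S : Subgroup X).subtype.comp eS.symm.toMonoidHom, ?_, ?_, ?_⟩
  · intro x y hxy
    have h1 : (eS.symm x : X) = (eS.symm y : X) := hxy
    exact eS.symm.injective (Subtype.ext h1)
  · intro d
    exact (eS.symm d).2
  · intro x hx
    exact ⟨eS ⟨x, hx⟩, by simp⟩

/-- The cyclic maximal subgroup of a dihedral Sylow 2-subgroup. -/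
theorem dih_cyclic_max {X : Type*} [Group X] [Finite X] (S : Sylow 2 X) (n : ℕ) [NeZero n]
    (ι : DihedralGroup n →* X) (hinj : Function.Injective ι)
    (hS : ∀ d, ι d ∈ (S : Subgroup X)) (hsurj : ∀ x ∈ (S : Subgroup X), ∃ d, ι d = x) :
    ∃ M : Subgroup X, (∀ x, x ∈ M ↔ ∃ j, x = ι (DihedralGroup.r j)) ∧ M ≤ (S : Subgroup X) ∧
      IsCyclic M ∧ M.relIndex (S : Subgroup X) = 2 := by
  obtain ⟨M, hMdef⟩ : ∃ M : Subgroup X, M = Subgroup.zpowers (ι (DihedralGroup.r 1)) := ⟨_, rfl⟩
  have hMmem : ∀ x, x ∈ M ↔ ∃ j, x = ι (DihedralGroup.r j) := by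
    intro x
    rw [hMdef, Subgroup.mem_zpowers_iff]
    constructor
    · rintro ⟨t, rfl⟩
      exact ⟨(t : ZMod n), by rw [← map_zpow, DihedralGroup.r_one_zpow]⟩
    · rintro ⟨j, rfl⟩
      refine ⟨(j.val : ℤ), ?_⟩
      rw [← map_zpow, zpow_natCast, DihedralGroup.r_one_pow, ZMod.natCast_zmod_val]
  have hMS : M ≤ (S : Subgroup X) := by
    rw [hMdef, Subgroup.zpowers_le]; exact hS _
  have hMc : IsCyclic M := by rw [hMdef]; infer_instance
  have hcardS : Nat.card (S : Subgroup X) = 2 * n := by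
    rw [← DihedralGroup.nat_card (n := n)]
    symm
    apply Nat.card_congr
    exact Equiv.ofBijective (fun d => (⟨ι d, hS d⟩ : (S : Subgroup X)))
      ⟨fun a b hab => hinj (congrArg Subtype.val hab),
        fun x => by obtain ⟨d, hd⟩ := hsurj x.1 x.2; exact ⟨d, Subtype.ext hd⟩⟩
  have hcardM : Nat.card M = n := by
    rw [hMdef, Nat.card_zpowers, orderOf_injective ι hinj, DihedralGroup.orderOf_r_one]
  have hMi : M.relIndex (S : Subgroup X) = 2 := by
    have h1 := Subgroup.card_mul_index (M.subgroupOf (S : Subgroup X))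
    rw [Nat.card_congr (Subgroup.subgroupOfEquivOfLe hMS).toEquiv, hcardM, hcardS] at h1
    have h3 : (M.subgroupOf (S : Subgroup X)).index = 2 := by
      have hnpos : 0 < n := Nat.pos_of_ne_zero (NeZero.ne n)
      nlinarith
    exact h3
  exact ⟨M, hMmem, hMS, hMc, hMi⟩

end Cfsg.Agent.Lib.Helper43
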