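import Mathlib
import Cfsg.Agent.Lib.Helper7.Quat

set_option autoImplicit false

namespace Cfsg.Agent.Lib.Helper43

open QuaternionGroup

section QuatSL

/-- two homomorphisms out of a quaternion group agreeing on the generators agree -/
theorem quat_hom_ext {n : ℕ} [NeZero n] {M : Type*} [Monoid M] (f g : QuaternionGroup n →* M)
    (h1 : f (a 1) = g (a 1)) (h2 : f (xa 0) = g (xa 0)) : f = g := by
  have : NeZero (2 * n) := ⟨by have := NeZero.ne n; omega⟩
  have ha : ∀ i : ZMod (2 * n), f (a i) = g (a i) := by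
    intro i
    rw [← ZMod.natCast_zmod_val i, ← a_one_pow, map_pow, map_pow, h1]
  ext q
  rcases q with i | i
  · exact ha i
  · have : (xa i : QuaternionGroup n) = xa 0 * a i := by rw [xa_mul_a, zero_add]
    rw [this, map_mul, map_mul, h2, ha]

abbrev SL23 := Matrix.SpecialLinearGroup (Fin 2) (ZMod 3)

def sI : SL23 := ⟨!![0, -1; 1, 0], by decide⟩
def sJ : SL23 := ⟨!![1, 1; 1, 2], by decide⟩
def sW : SL23 := ⟨!![1, 1; 0, 1], by decide⟩

theorem sI_pow : sI ^ (2 * 2) = 1 := by decide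
theorem sJ_sq : sJ * sJ = sI ^ 2 := by decide
theorem sI_sJ : sI * sJ = sJ * sI⁻¹ := by decide
theorem sW_sI : sW * sI * sW⁻¹ = sJ := by decide
theorem sW_sJ : sW * sJ * sW⁻¹ = sI * sJ := by decide
theorem sW_pow : sW ^ 3 = 1 := by decide
theorem card_SL23 : Nat.card SL23 = 24 := by
  rw [Nat.card_eq_fintype_card]; decide


/-- the automorphism `I ↦ J ↦ K ↦ I` of `Q8`, as a homomorphism -/
def q8α₀ : QuaternionGroup 2 →* QuaternionGroup 2 :=
  Cfsg.Agent.Lib.Helper7.quatHom (n := 2) (by norm_num) (xa 0) (xa 3) (by decide) (by decide)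
    (by decide)

theorem q8α₀_bij : Function.Bijective q8α₀ := by decide

/-- the automorphism `I ↦ J ↦ K ↦ I` of `Q8` -/
noncomputable def q8α : MulAut (QuaternionGroup 2) := MulEquiv.ofBijective q8α₀ q8α₀_bij

theorem q8α_apply (q : QuaternionGroup 2) : q8α q = q8α₀ q := rfl

theorem compat_of_gen {N H : Type*} [Group N] [Group H] (α : MulAut N) (fn : N →* H) (u : H)
    (h : ∀ q, fn (α q) = u * fn q * u⁻¹) (g : Multiplicative ℤ) :
    fn.comp ((zpowersHom (MulAut N) α) g).toMonoidHom =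
      (MulAut.conj ((zpowersHom H u) g)).toMonoidHom.comp fn := by
  have key : ∀ n : ℤ, ∀ q, fn ((α ^ n) q) = u ^ n * fn q * (u ^ n)⁻¹ := by
    intro n
    induction n using Int.induction_on with
    | zero => intro q; simp
    | succ n ih =>
      intro q
      rw [zpow_add_one, MulAut.mul_apply, ih, h, zpow_add_one]; group
    | pred n ih =>
      intro q
      have h' : ∀ q, fn (α⁻¹ q) = u⁻¹ * fn q * u := by
        intro q
        have := h (α⁻¹ q)
        rw [MulAut.apply_inv_self] at this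
        rw [this]; group
      rw [zpow_sub_one, MulAut.mul_apply, ih, h', zpow_sub_one]; group
  ext q
  simp only [MonoidHom.comp_apply, MulEquiv.coe_toMonoidHom, zpowersHom_apply, MulAut.conj_apply]
  exact key _ q

/-- the group `Q8 ⋊ ℤ` -/
abbrev QZ := QuaternionGroup 2 ⋊[zpowersHom (MulAut (QuaternionGroup 2)) q8α] Multiplicative ℤ

/-- the map `Q8 → SL(2,3)` -/
def q8f₂ : QuaternionGroup 2 →* SL23 :=
  Cfsg.Agent.Lib.Helper7.quatHom (n := 2) (by norm_num) sI sJ sI_pow sJ_sq sI_sJ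

theorem q8f₂_compat : ∀ q : QuaternionGroup 2, q8f₂ (q8α₀ q) = sW * q8f₂ q * sW⁻¹ := by decide

theorem q8f₂_surj : ∀ s : SL23, ∃ q : QuaternionGroup 2, ∃ k : Fin 3, q8f₂ q * sW ^ (k : ℕ) = s := by
  decide

theorem q8_pow_four : ∀ q : QuaternionGroup 2, q ^ 4 = 1 := by decide


theorem exists_section_SL23 {G : Type*} [Group G] (i j w : G) (hi4 : i ^ 4 = 1) (hi2 : i * i ≠ 1)
    (hji : j * i = i⁻¹ * j) (hjj : j * j = i * i) (hwi : w * i * w⁻¹ = j)
    (hwj : w * j * w⁻¹ = i * j) (hw : Odd (orderOf w)) :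
    ∃ (H K : Subgroup G) (hK : (K.subgroupOf H).Normal),
      Nonempty ((H ⧸ K.subgroupOf H) ≃* Matrix.SpecialLinearGroup (Fin 2) (ZMod 3)) := by
  have hA : i ^ (2 * 2) = 1 := hi4
  have hX : j * j = i ^ 2 := by rw [hjj, pow_two]
  have hAX : i * j = j * i⁻¹ := by
    have : i * (j * i) = i * (i⁻¹ * j) := by rw [hji]
    rw [mul_inv_cancel_left] at this
    calc i * j = i * (j * i) * i⁻¹ := by group
      _ = j * i⁻¹ := by rw [this]
  have hord : orderOf i = 2 * 2 := by
    have := orderOf_eq_prime_pow (p := 2) (n := 1) (x := i) (by rw [pow_one, pow_two]; exact hi2)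
      (by norm_num; exact hi4)
    exact this.trans (by norm_num)
  let f₁ : QuaternionGroup 2 →* G := Cfsg.Agent.Lib.Helper7.quatHom (n := 2) (by norm_num) i j hA hX hAX
  have hf₁inj : Function.Injective f₁ :=
    Cfsg.Agent.Lib.Helper7.quatHom_injective (n := 2) (le_refl 2) i j hord hX hAX
  have hf₁a : f₁ (a 1) = i := by
    change i ^ (1 : ZMod (2 * 2)).val = i
    have : (1 : ZMod (2 * 2)).val = 1 := by decide
    rw [this, pow_one]
  have hf₁x : f₁ (xa 0) = j := by
    change j * i ^ (0 : ZMod (2 * 2)).val = j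
    have : (0 : ZMod (2 * 2)).val = 0 := by decide
    rw [this, pow_zero, mul_one]
  have hf₁x3 : f₁ (xa 3) = j * i ^ 3 := by
    change j * i ^ (3 : ZMod (2 * 2)).val = j * i ^ 3
    have : (3 : ZMod (2 * 2)).val = 3 := by decide
    rw [this]
  have hi3 : i ^ 3 = i⁻¹ := by
    apply eq_inv_of_mul_eq_one_left
    rw [← pow_succ]; exact hi4
  have h₁ : ∀ q, f₁ (q8α q) = w * f₁ q * w⁻¹ := by
    have : f₁.comp q8α.toMonoidHom = (MulAut.conj w).toMonoidHom.comp f₁ := by
      apply quat_hom_ext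
      · simp only [MonoidHom.comp_apply, MulEquiv.coe_toMonoidHom, MulAut.conj_apply, q8α_apply]
        have : q8α₀ (a 1) = xa 0 := by decide
        rw [this, hf₁x, hf₁a, hwi]
      · simp only [MonoidHom.comp_apply, MulEquiv.coe_toMonoidHom, MulAut.conj_apply, q8α_apply]
        have : q8α₀ (xa 0) = xa 3 := by decide
        rw [this, hf₁x3, hf₁x, hwj, hi3, hAX]
    intro q
    have := DFunLike.congr_fun this q
    simpa only [MonoidHom.comp_apply, MulEquiv.coe_toMonoidHom, MulAut.conj_apply] using this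
  have h₂ : ∀ q, q8f₂ (q8α q) = sW * q8f₂ q * sW⁻¹ := fun q => q8f₂_compat q
  let π₁ : QZ →* G := SemidirectProduct.lift f₁ (zpowersHom G w) (compat_of_gen q8α f₁ w h₁)
  let π₂ : QZ →* SL23 := SemidirectProduct.lift q8f₂ (zpowersHom SL23 sW) (compat_of_gen q8α q8f₂ sW h₂)
  have hπ₁ : ∀ γ : QZ, π₁ γ = f₁ γ.left * w ^ (Multiplicative.toAdd γ.right) := fun γ => rfl
  have hπ₂ : ∀ γ : QZ, π₂ γ = q8f₂ γ.left * sW ^ (Multiplicative.toAdd γ.right) := fun γ => rfl
  -- `3 ∣ orderOf w`
  have h3 : 3 ∣ orderOf w := by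
    by_contra h3
    have hc : Nat.Coprime 3 (orderOf w) := (Nat.Prime.coprime_iff_not_dvd Nat.prime_three).mpr h3
    obtain ⟨m, hm⟩ := exists_pow_eq_self_of_coprime hc
    have hw3 : Commute (w ^ 3) i := by
      have e1 : w * (i * j) * w⁻¹ = i := by
        have : w * (i * j) * w⁻¹ = (w * i * w⁻¹) * (w * j * w⁻¹) := by group
        rw [this, hwi, hwj, ← mul_assoc, hji, mul_assoc, hjj, inv_mul_cancel_left]
      have hw3e : w ^ 3 = w * w * w := by rw [pow_succ, pow_two]
      have e3 : w * (w * (w * i * w⁻¹) * w⁻¹) * w⁻¹ = i := by rw [hwi, hwj, e1]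
      have : w ^ 3 * i = i * w ^ 3 := by
        rw [hw3e]
        calc w * w * w * i = (w * (w * (w * i * w⁻¹) * w⁻¹) * w⁻¹) * (w * w * w) := by group
          _ = i * (w * w * w) := by rw [e3]
      exact this
    have hwc : Commute w i := by rw [← hm]; exact hw3.pow_left m
    have : j = i := by rw [← hwi, hwc.eq]; group
    rw [this] at hji
    have : i * i = 1 := by rw [hji, inv_mul_cancel]
    exact hi2 this
  have hker : π₁.ker ≤ π₂.ker := by
    intro γ hγ
    rw [MonoidHom.mem_ker] at hγ ⊢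
    rw [hπ₁] at hγ
    rw [hπ₂]
    set q := γ.left
    set n := Multiplicative.toAdd γ.right
    have hy : f₁ q = w ^ (-n) := by
      rw [zpow_neg]; exact eq_inv_of_mul_eq_one_left hγ
    have hy4 : f₁ q ^ 4 = 1 := by rw [← map_pow, q8_pow_four, map_one]
    have hyo : f₁ q ^ orderOf w = 1 := by
      rw [hy, ← zpow_natCast, ← zpow_mul, mul_comm, zpow_mul, zpow_natCast, pow_orderOf_eq_one,
        one_zpow]
    have hy1 : f₁ q = 1 := by
      have d1 := orderOf_dvd_of_pow_eq_one hy4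
      have d2 := orderOf_dvd_of_pow_eq_one hyo
      have hcop : Nat.Coprime 4 (orderOf w) := by
        have : Nat.Coprime 2 (orderOf w) := Nat.coprime_two_left.mpr hw
        exact Nat.Coprime.pow_left 2 this
      have := Nat.eq_one_of_dvd_coprimes hcop d1 d2
      exact orderOf_eq_one_iff.mp this
    have hq1 : q = 1 := hf₁inj (by rw [hy1, map_one])
    have hwn : w ^ n = 1 := by rw [hy1, one_mul] at hγ; exact hγ
    have hdvd : (orderOf w : ℤ) ∣ n := orderOf_dvd_iff_zpow_eq_one.mpr hwn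
    have h3n : (3 : ℤ) ∣ n := (Int.natCast_dvd_natCast.mpr h3).trans hdvd
    obtain ⟨m, hm⟩ := h3n
    rw [hq1, map_one, one_mul, hm, zpow_mul]
    have : sW ^ (3 : ℤ) = 1 := by
      have := sW_pow
      rw [← zpow_natCast] at this
      exact this
    rw [this, one_zpow]
  have hsurj2 : Function.Surjective π₂ := by
    intro s
    obtain ⟨q, k, hk⟩ := q8f₂_surj s
    refine ⟨⟨q, Multiplicative.ofAdd ((k : ℕ) : ℤ)⟩, ?_⟩
    rw [hπ₂]
    simp only [toAdd_ofAdd, zpow_natCast]
    exact hk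
  let H : Subgroup G := π₁.range
  have hsurj1 : Function.Surjective π₁.rangeRestrict := π₁.rangeRestrict_surjective
  let ρ : H →* SL23 := π₁.rangeRestrict.liftOfSurjective hsurj1
    ⟨π₂, by rw [MonoidHom.ker_rangeRestrict]; exact hker⟩
  have hρ : ∀ γ, ρ (π₁.rangeRestrict γ) = π₂ γ := fun γ =>
    MonoidHom.liftOfRightInverse_comp_apply _ _ _ _ γ
  have hρs : Function.Surjective ρ := fun s => by
    obtain ⟨γ, rfl⟩ := hsurj2 s
    exact ⟨_, hρ γ⟩
  have key : ∀ (K' : Subgroup H) (hK' : K'.Normal), K' = ρ.ker → Nonempty (H ⧸ K' ≃* SL23) := by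
    rintro _ _ rfl
    exact ⟨QuotientGroup.quotientKerEquivOfSurjective ρ hρs⟩
  have hKe : (ρ.ker.map H.subtype).subgroupOf H = ρ.ker :=
    Subgroup.comap_map_eq_self_of_injective H.subtype_injective ρ.ker
  have hN : ((ρ.ker.map H.subtype).subgroupOf H).Normal := by rw [hKe]; infer_instance
  exact ⟨H, ρ.ker.map H.subtype, hN, key _ hN hKe⟩

end QuatSL

end Cfsg.Agent.Lib.Helper43
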