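import Mathlib
import Cfsg.Agent.Lib.Helper43.QuatSL
import Cfsg.Agent.Lib.Helper43.DihSyl2

set_option autoImplicit false

namespace Cfsg.Agent.Lib.Helper43

open QuaternionGroup Cfsg.Agent.Lib.Helper42 Cfsg.Agent.Lib.Helper75

section QuatSyl

variable {G : Type*} [Group G]

/-- an element of odd order normalizing a cyclic `2`-subgroup centralizes it -/
theorem cent_of_cyclic_two [Finite G] (D : Subgroup G) [IsCyclic D] (hD : IsPGroup 2 D) (z : G)
    (hz : z ∈ Subgroup.normalizer (D : Set G)) (ho : (orderOf z).Coprime 2) :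
    z ∈ Subgroup.centralizer (D : Set G) := by
  set φ := D.normalizerMonoidHom ⟨z, hz⟩ with hφ
  have d1 : orderOf φ ∣ orderOf z := by
    have := orderOf_map_dvd D.normalizerMonoidHom (⟨z, hz⟩ : Subgroup.normalizer (D : Set G))
    rwa [Subgroup.orderOf_mk] at this
  have d2 : orderOf φ ∣ (Nat.card D).totient := by
    rw [← IsCyclic.card_mulAut]
    exact orderOf_dvd_natCard φ
  obtain ⟨e, he⟩ := (IsPGroup.iff_card (p := 2)).mp hD
  have d3 : orderOf φ ∣ 2 ^ e := by
    rw [he] at d2
    rcases Nat.eq_zero_or_pos e with h0 | h0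
    · rw [h0, pow_zero, Nat.totient_one] at d2
      rw [Nat.dvd_one.mp d2]; exact one_dvd _
    · rw [Nat.totient_prime_pow Nat.prime_two h0] at d2
      have : orderOf φ ∣ 2 ^ (e - 1) := by simpa using d2
      exact this.trans (pow_dvd_pow 2 (Nat.sub_le e 1))
  have hc : Nat.Coprime (orderOf z) (2 ^ e) := Nat.Coprime.pow_right e ho
  have h1 : orderOf φ = 1 := Nat.eq_one_of_dvd_coprimes hc d1 d3
  have h2 : φ = 1 := orderOf_eq_one_iff.mp h1
  have h3 : (⟨z, hz⟩ : Subgroup.normalizer (D : Set G)) ∈ D.normalizerMonoidHom.ker :=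
    MonoidHom.mem_ker.mpr h2
  rw [Subgroup.normalizerMonoidHom_ker, Subgroup.mem_subgroupOf] at h3
  exact h3


theorem commute_sq_of_conj_inv (u I : G) (e : u * I * u⁻¹ = I⁻¹) : Commute (u * u) I := by
  have e1 : u * I = I⁻¹ * u := by rw [← e]; group
  have e2 : u * I⁻¹ = I * u := by
    have : u * I⁻¹ * u⁻¹ = I := by
      have : u * I⁻¹ * u⁻¹ = (u * I * u⁻¹)⁻¹ := by group
      rw [this, e, inv_inv]
    calc u * I⁻¹ = (u * I⁻¹ * u⁻¹) * u := by group
      _ = I * u := by rw [this]
  show u * u * I = I * (u * u)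
  rw [mul_assoc, e1, ← mul_assoc, e2, mul_assoc]

theorem quat_core [Finite G] {N : ℕ} (hN : 0 < N) (ι : QuaternionGroup N →* G)
    (hι : Function.Injective ι) (B : Subgroup G) (hB : IsPGroup 2 B) (hBT : B ≤ ι.range) (z : G)
    (hz : z ∈ Subgroup.normalizer (B : Set G)) (ho : (orderOf z).Coprime 2)
    (hzc : z ∉ Subgroup.centralizer (B : Set G)) :
    ∃ (H K : Subgroup G) (hK : (K.subgroupOf H).Normal),
      Nonempty ((H ⧸ K.subgroupOf H) ≃* Matrix.SpecialLinearGroup (Fin 2) (ZMod 3)) := by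
  have : NeZero N := ⟨hN.ne'⟩
  have hN0 : (N : ZMod (2 * N)) + N = 0 := zmod_half_add_half rfl
  have hNne : (N : ZMod (2 * N)) ≠ 0 := zmod_half_ne_zero hN rfl
  have hodd : Odd (orderOf z) := Nat.coprime_two_right.mp ho
  set A : Subgroup G := Subgroup.zpowers (ι (a 1)) with hAdef
  have ha_in : ∀ t : ZMod (2 * N), ι (a t) ∈ A := by
    intro t
    have : NeZero (2 * N) := ⟨by omega⟩
    rw [← ZMod.natCast_zmod_val t, ← a_one_pow, map_pow]
    exact Subgroup.pow_mem _ (Subgroup.mem_zpowers _) _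
  have hxa_notin : ∀ s : ZMod (2 * N), ι (xa s) ∉ A := by
    intro s hs
    obtain ⟨k, hk⟩ := (Submonoid.mem_powers_iff _ _).mp (mem_powers_iff_mem_zpowers.mpr hs)
    rw [← map_pow, a_one_pow] at hk
    have := hι hk
    cases this
  have hxa_inv : ∀ s : ZMod (2 * N), (xa s : QuaternionGroup N)⁻¹ = xa ((N : ZMod (2 * N)) + s) := by
    intro s
    apply inv_eq_of_mul_eq_one_right
    rw [xa_mul_xa, one_def]; congr 1; linear_combination hN0
  have ha_inv : ∀ t : ZMod (2 * N), (a t : QuaternionGroup N)⁻¹ = a (-t) := by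
    intro t
    apply inv_eq_of_mul_eq_one_right; rw [a_mul_a, add_neg_cancel, a_zero]
  -- Step 1: `z` does not normalize `B ⊓ A`
  have hnorm : z ∉ Subgroup.normalizer ((B ⊓ A : Subgroup G) : Set G) := by
    intro hzA
    apply hzc
    have : IsCyclic ↥(B ⊓ A) := Subgroup.isCyclic_of_le (inf_le_right : B ⊓ A ≤ A)
    have hcA0 : z ∈ Subgroup.centralizer ((B ⊓ A : Subgroup G) : Set G) :=
      cent_of_cyclic_two (B ⊓ A) hB.to_inf_left z hzA ho
    rw [Subgroup.mem_centralizer_iff]
    intro b hb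
    obtain ⟨q, rfl⟩ := hBT hb
    rcases q with t | s
    · exact (Subgroup.mem_centralizer_iff.mp hcA0) _ ⟨hb, ha_in t⟩
    · have hb' : z * ι (xa s) * z⁻¹ ∈ B := (Subgroup.mem_normalizer_iff.mp hz _).mp hb
      obtain ⟨q', hq'⟩ := hBT hb'
      rcases q' with t' | s'
      · exfalso
        have h1 : z * ι (xa s) * z⁻¹ ∈ B ⊓ A := ⟨hb', by rw [← hq']; exact ha_in t'⟩
        have h2 : ι (xa s) ∈ B ⊓ A := (Subgroup.mem_normalizer_iff.mp hzA _).mpr h1
        exact hxa_notin s h2.2
      · set a' := (ι (xa s))⁻¹ * (z * ι (xa s) * z⁻¹) with ha'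
        have ha'A : a' ∈ A := by
          rw [ha', ← hq', ← map_inv, ← map_mul, hxa_inv, xa_mul_xa]
          exact ha_in _
        have ha'B : a' ∈ B := B.mul_mem (B.inv_mem hb) hb'
        have hcomm : a' * z = z * a' := (Subgroup.mem_centralizer_iff.mp hcA0) a' ⟨ha'B, ha'A⟩
        have hconj : z * ι (xa s) = ι (xa s) * a' * z := by rw [ha']; group
        have hpow : ∀ m : ℕ, z ^ m * ι (xa s) = ι (xa s) * a' ^ m * z ^ m := by
          intro m
          induction m with
          | zero => simp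
          | succ m ih =>
            have hc2 : z * a' ^ m = a' ^ m * z :=
              (Commute.pow_right (show Commute z a' from hcomm.symm) m).eq
            calc z ^ (m + 1) * ι (xa s) = z * (z ^ m * ι (xa s)) := by
                  rw [pow_succ', mul_assoc]
              _ = z * (ι (xa s) * a' ^ m * z ^ m) := by rw [ih]
              _ = (z * ι (xa s)) * a' ^ m * z ^ m := by simp only [mul_assoc]
              _ = ι (xa s) * a' * z * a' ^ m * z ^ m := by rw [hconj]
              _ = ι (xa s) * a' * (z * a' ^ m) * z ^ m := by simp only [mul_assoc]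
              _ = ι (xa s) * a' * (a' ^ m * z) * z ^ m := by rw [hc2]
              _ = ι (xa s) * a' ^ (m + 1) * z ^ (m + 1) := by
                  rw [pow_succ' a', pow_succ' z]; simp only [mul_assoc]
        have h1 := hpow (orderOf z)
        rw [pow_orderOf_eq_one, one_mul, mul_one] at h1
        have ha'o : a' ^ orderOf z = 1 := by
          have := mul_left_cancel (a := ι (xa s)) (b := 1) (c := a' ^ orderOf z)
            (by rw [mul_one]; exact h1)
          exact this.symm
        have ha'1 : a' = 1 := by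
          obtain ⟨k, hk⟩ := hB ⟨a', ha'B⟩
          have hk' : a' ^ 2 ^ k = 1 := by simpa [Subtype.ext_iff] using hk
          have d1 := orderOf_dvd_of_pow_eq_one ha'o
          have d2 := orderOf_dvd_of_pow_eq_one hk'
          have hc : Nat.Coprime (orderOf z) (2 ^ k) := Nat.Coprime.pow_right k ho
          exact orderOf_eq_one_iff.mp (Nat.eq_one_of_dvd_coprimes hc d1 d2)
        rw [ha'1, mul_one] at hconj
        exact hconj.symm
  -- Step 2
  obtain ⟨x, hxA0, hx⟩ : ∃ x ∈ B ⊓ A, z * x * z⁻¹ ∉ B ⊓ A := by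
    by_contra hcon
    push Not at hcon
    apply hnorm
    have hle : cj z (B ⊓ A) ≤ B ⊓ A := by
      rintro _ ⟨y, hy, rfl⟩
      exact hcon y hy
    have heq : cj z (B ⊓ A) = B ⊓ A := Subgroup.eq_of_le_of_card_ge hle (card_cj z _).ge
    exact cj_eq_self_iff.mp heq
  -- Step 3
  obtain ⟨hxB, hxA⟩ := hxA0
  obtain ⟨q, rfl⟩ := hBT hxB
  rcases q with t | s0
  swap
  · exact absurd hxA (hxa_notin s0)
  have hyB : z * ι (a t) * z⁻¹ ∈ B := (Subgroup.mem_normalizer_iff.mp hz _).mp hxB
  obtain ⟨q', hq'⟩ := hBT hyB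
  rcases q' with t' | s
  · exact absurd ⟨hyB, by rw [← hq']; exact ha_in t'⟩ hx
  -- Step 4
  have hord_conj : ∀ g : G, orderOf (z * g * z⁻¹) = orderOf g := fun g => by
    have := (MulAut.conj z).orderOf_eq g
    simpa using this
  have hfour : ∀ u : ZMod (2 * N), orderOf (a u : QuaternionGroup N) = 4 →
      u + u = (N : ZMod (2 * N)) := by
    intro u hu
    apply zmod_two_torsion hN rfl
    · have h4 : (a u : QuaternionGroup N) ^ 4 = 1 := by rw [← hu]; exact pow_orderOf_eq_one _
      have : (a u : QuaternionGroup N) ^ 4 = a ((u + u) + (u + u)) := by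
        rw [show (4 : ℕ) = 2 + 2 from rfl, pow_add, pow_two, a_mul_a, a_mul_a]
      rw [this, one_def] at h4
      exact a.inj h4
    · intro h0
      have h2 : (a u : QuaternionGroup N) ^ 2 = 1 := by rw [pow_two, a_mul_a, h0, a_zero]
      have := orderOf_dvd_of_pow_eq_one h2
      rw [hu] at this
      norm_num at this
  have hord_at : orderOf (a t : QuaternionGroup N) = 4 := by
    rw [← orderOf_injective ι hι, ← hord_conj, ← hq', orderOf_injective ι hι, orderOf_xa]
  have htt : t + t = (N : ZMod (2 * N)) := hfour t hord_at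
  have hI4 : ι (a t) ^ 4 = 1 := by rw [← map_pow, ← hord_at, pow_orderOf_eq_one, map_one]
  have hI2 : ι (a t) * ι (a t) ≠ 1 := by
    rw [← map_mul, a_mul_a, htt]
    intro h
    have := hι (h.trans (map_one ι).symm)
    rw [one_def] at this
    exact hNne (a.inj this)
  have hJI : ∀ s : ZMod (2 * N), ι (xa s) * ι (a t) = (ι (a t))⁻¹ * ι (xa s) := by
    intro s
    rw [← map_inv, ← map_mul, ← map_mul, ha_inv, xa_mul_a, a_mul_xa]; congr 2; ring
  have hJJ : ∀ s : ZMod (2 * N), ι (xa s) * ι (xa s) = ι (a t) * ι (a t) := by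
    intro s
    rw [← map_mul, ← map_mul, xa_mul_xa, a_mul_a, htt]; congr 2; ring
  -- Step 5
  have hxsB : ι (xa s) ∈ B := by rw [hq']; exact hyB
  have hkB : z * ι (xa s) * z⁻¹ ∈ B := (Subgroup.mem_normalizer_iff.mp hz _).mp hxsB
  obtain ⟨q'', hq''⟩ := hBT hkB
  rcases q'' with t' | s'
  · exfalso
    have hord_at' : orderOf (a t' : QuaternionGroup N) = 4 := by
      rw [← orderOf_injective ι hι, hq'', hord_conj, orderOf_injective ι hι, orderOf_xa]
    have htt' : t' + t' = (N : ZMod (2 * N)) := hfour t' hord_at'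
    have hz2 : z * (z * ι (a t) * z⁻¹) * z⁻¹ = ι (a t') := by rw [← hq', hq'']
    have hz4e : z ^ 4 = (z * z) * (z * z) := by
      rw [show (4 : ℕ) = 2 + 2 from rfl, pow_add, pow_two]
    have hcomm4 : Commute (z ^ 4) (ι (a t)) := by
      by_cases hd : t' - t = 0
      · have : t' = t := sub_eq_zero.mp hd
        rw [this] at hz2
        have h2 : Commute (z * z) (ι (a t)) := by
          show z * z * ι (a t) = ι (a t) * (z * z)
          calc z * z * ι (a t) = (z * (z * ι (a t) * z⁻¹) * z⁻¹) * (z * z) := by group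
            _ = ι (a t) * (z * z) := by rw [hz2]
        rw [hz4e]; exact h2.mul_left h2
      · have hdN : t' - t = (N : ZMod (2 * N)) := by
          apply zmod_two_torsion hN rfl _ _ hd
          linear_combination htt' - htt
        have ht' : t' = -t := by linear_combination hdN + htt + hN0
        rw [ht'] at hz2
        have hinv : ι (a (-t)) = (ι (a t))⁻¹ := by rw [← map_inv, ha_inv]
        rw [hinv] at hz2
        have e : z * z * ι (a t) * (z * z)⁻¹ = (ι (a t))⁻¹ := by rw [← hz2]; group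
        rw [hz4e]
        exact commute_sq_of_conj_inv (z * z) _ e
    have hc4 : Nat.Coprime 4 (orderOf z) := by
      have : Nat.Coprime (2 ^ 2) (orderOf z) := Nat.Coprime.pow_left 2 (Nat.coprime_comm.mp ho)
      exact this
    obtain ⟨m, hm⟩ := exists_pow_eq_self_of_coprime hc4
    have hcz : Commute z (ι (a t)) := by rw [← hm]; exact hcomm4.pow_left m
    have : ι (xa s) = ι (a t) := by rw [hq', hcz.eq]; group
    have := hι this
    cases this
  · have hrel : ι (xa s') * ι (xa s) = (ι (xa s))⁻¹ * ι (xa s') := by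
      have := hJI s
      have e : z * (ι (xa s) * ι (a t)) * z⁻¹ = z * ((ι (a t))⁻¹ * ι (xa s)) * z⁻¹ := by
        rw [this]
      have e1 : z * (ι (xa s) * ι (a t)) * z⁻¹ = (z * ι (xa s) * z⁻¹) * (z * ι (a t) * z⁻¹) := by
        group
      have e2 : z * ((ι (a t))⁻¹ * ι (xa s)) * z⁻¹ =
          (z * ι (a t) * z⁻¹)⁻¹ * (z * ι (xa s) * z⁻¹) := by group
      rw [e1, e2, ← hq', ← hq''] at e
      exact e
    rw [← map_inv, ← map_mul, ← map_mul, hxa_inv, xa_mul_xa, xa_mul_xa] at hrel
    have hrel' := a.inj (hι hrel)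
    have hd2 : (s' - s - t) + (s' - s - t) = 0 := by linear_combination -hrel' - htt
    by_cases hd : s' - s - t = 0
    · have hs' : s' = s + t := by linear_combination hd
      rw [hs'] at hq''
      have hzk : z * ι (xa (s + t)) * z⁻¹ = ι (a t) := by
        have e0 : ι (xa (s + t)) = ι (xa s) * ι (a t) := by rw [← map_mul, xa_mul_a]
        rw [e0]
        have e1 : z * (ι (xa s) * ι (a t)) * z⁻¹ =
            (z * ι (xa s) * z⁻¹) * (z * ι (a t) * z⁻¹) := by group
        rw [e1, ← hq', ← hq'', ← map_mul, xa_mul_xa]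
        congr 2
        linear_combination -htt
      refine exists_section_SL23 (ι (a t)) (ι (xa (s + t))) z⁻¹ hI4 hI2 (hJI _) (hJJ _) ?_ ?_
        (by rw [orderOf_inv]; exact hodd)
      · rw [← hzk]; group
      · have e0 : ι (a t) * ι (xa (s + t)) = ι (xa s) := by
          rw [← map_mul, a_mul_xa]; congr 2; ring
        rw [e0, hq'']; group
    · have hdN : s' - s - t = (N : ZMod (2 * N)) := zmod_two_torsion hN rfl _ hd2 hd
      refine exists_section_SL23 (ι (a t)) (ι (xa s)) z hI4 hI2 (hJI _) (hJJ _) hq'.symm ?_ hodd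
      rw [← hq'', ← map_mul, a_mul_xa]
      congr 2
      linear_combination hdN + htt + hN0

theorem quat_sylow_main [Finite G] (T : Sylow 2 G) {N : ℕ} (hN : 0 < N)
    (ι : QuaternionGroup N →* G) (hι : Function.Injective ι)
    (hT : ι.range = (T : Subgroup G)) :
    NPC 2 G ∨ ∃ (H K : Subgroup G) (hK : (K.subgroupOf H).Normal),
      Nonempty ((H ⧸ K.subgroupOf H) ≃* Matrix.SpecialLinearGroup (Fin 2) (ZMod 3)) := by
  by_cases hF : FrobCond 2 G
  · exact Or.inl (npc_of_frobCond hF)
  · right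
    unfold FrobCond at hF
    push Not at hF
    obtain ⟨B0, hB0, z0, hz0, ho0, hzc0⟩ := hF
    obtain ⟨g, hg⟩ := exists_conj_le_sylow T hB0
    refine quat_core hN ι hι (cj g B0) (isPGroup_cj hB0) (by rw [hT]; exact hg) (g * z0 * g⁻¹)
      ?_ ?_ ?_
    · rw [normalizer_cj]; exact conj_mem_cj hz0
    · have := (MulAut.conj g).orderOf_eq z0
      simp only [MulAut.conj_apply] at this
      rw [this]; exact ho0
    · rw [centralizer_cj, mem_cj]
      intro h
      apply hzc0
      convert h using 1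
      group

end QuatSyl

end Cfsg.Agent.Lib.Helper43
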