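import Mathlib
import Cfsg.Agent.Lib.Helper10.BR0

/-!
# S0999 piece BR-T3 (helper43): the two configurations from the degree equation
-/

set_option autoImplicit false
set_option linter.unusedSectionVars false

namespace Cfsg.Agent.Lib.Helper10.BR

open Cfsg
open Cfsg.Agent.Lib.Helper83 (trivIrr)
open scoped ComplexConjugate

namespace BRT3aux

theorem arith {p e t a b x ε : ℤ} (hpp : Prime p) (hp : 5 ≤ p) (he : 2 ≤ e) (ht : 3 ≤ t)
    (het : e * t = p - 1) (hab : a + b = e - 1) (ha : 0 ≤ a) (hb : 1 ≤ b) (hx : 2 ≤ x)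
    (hε : ε = 1 ∨ ε = -1) (hmod : p ∣ x - ε * e) (hdvd : x ∣ t * (p - e) * e)
    (hDE : ε * x = 1 + a * (t * (p - e)) - b * (p - 1)) :
    (ε = 1 ∧ x = e ∧ a * t + 1 = e) ∨ (ε = -1 ∧ x = p - e ∧ a * t + 2 = e) := by
  have hm : t * (p - e) = 1 + (t - 1) * p := by linear_combination (-1 : ℤ) * het
  have hep : e < p := by nlinarith
  have hpe : ¬ p ∣ e := fun hd => by
    have := Int.le_of_dvd (by linarith) hd
    linarith
  have hm1 : 1 ≤ (t - 1) * p := by nlinarith
  obtain ⟨c, hc⟩ := hdvd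
  have hc' : x * c = e + e * (t - 1) * p := by rw [← hc, hm]; ring
  have hcpos : 1 ≤ c := by
    by_contra hcon
    have hc0 : c ≤ 0 := by omega
    nlinarith
  have h4 : e * (t - 1) = p - 1 - e := by linear_combination het
  have hb' : b = e - 1 - a := by linarith
  rw [hm, hb'] at hDE
  rcases hε with rfl | rfl
  · left
    obtain ⟨h, hh⟩ := hmod
    have hh' : x = e + p * h := by linarith
    have hh0 : 0 ≤ h := by
      by_contra hcon
      have : h ≤ -1 := by omega
      nlinarith
    have h1 : p ∣ e * (c - 1) := ⟨e * (t - 1) - c * h, by rw [hh'] at hc'; linear_combination hc'⟩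
    have h2 : p ∣ c - 1 := (hpp.dvd_or_dvd h1).resolve_left hpe
    obtain ⟨g, hg⟩ := h2
    have hg0 : 0 ≤ g := by
      by_contra hcon
      have : g ≤ -1 := by omega
      nlinarith
    have hc2 : c = 1 + p * g := by linarith
    have h3 : h + g * e + g * h * p = e * (t - 1) := by
      rw [hh', hc2] at hc'
      have h0 : p * (h + g * e + g * h * p - e * (t - 1)) = 0 := by linear_combination hc'
      rcases mul_eq_zero.mp h0 with h0 | h0
      · linarith
      · linarith
    have h5 : g * h ≤ 0 := by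
      by_contra hcon
      have h6 : 1 ≤ g * h := by omega
      nlinarith [mul_nonneg hg0 (by linarith : (0 : ℤ) ≤ e)]
    have h6 : g = 0 ∨ h = 0 := by
      have : g * h = 0 := le_antisymm h5 (mul_nonneg hg0 hh0)
      exact mul_eq_zero.mp this
    rcases h6 with rfl | rfl
    · exfalso
      have hc3 : c = 1 := by linarith
      rw [hc3, mul_one] at hc'
      nlinarith
    · have hxe : x = e := by linarith
      refine ⟨rfl, hxe, ?_⟩
      rw [hxe] at hDE
      have h0 : p * (a * t - (e - 1)) = 0 := by linear_combination (-1 : ℤ) * hDE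
      rcases mul_eq_zero.mp h0 with h0 | h0
      · linarith
      · linarith
  · right
    obtain ⟨h, hh⟩ := hmod
    have hh' : x = p * h - e := by linarith
    have hh1 : 1 ≤ h := by
      by_contra hcon
      have : h ≤ 0 := by omega
      nlinarith
    have h1 : p ∣ e * (c + 1) :=
      ⟨c * h - e * (t - 1), by rw [hh'] at hc'; linear_combination (-1 : ℤ) * hc'⟩
    have h2 : p ∣ c + 1 := (hpp.dvd_or_dvd h1).resolve_left hpe
    obtain ⟨g, hg⟩ := h2
    have hg1 : 1 ≤ g := by
      by_contra hcon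
      have : g ≤ 0 := by omega
      nlinarith
    have hc2 : c = p * g - 1 := by linarith
    have h3 : g * x = h + p - 1 - e := by
      rw [hc2] at hc'
      have h0 : p * (g * x - (h + p - 1 - e)) = 0 := by
        rw [hh'] at hc' ⊢
        linear_combination hc' + p * het
      rcases mul_eq_zero.mp h0 with h0 | h0
      · linarith
      · linarith
    have hh2 : h = 1 := by
      by_contra hcon
      have : 2 ≤ h := by omega
      nlinarith
    subst hh2
    have hxe : x = p - e := by linarith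
    have hg2 : g = 1 := by
      rw [hxe] at h3
      have : (g - 1) * (p - e) = 0 := by linear_combination h3
      rcases mul_eq_zero.mp this with h0 | h0
      · linarith
      · linarith
    refine ⟨rfl, hxe, ?_⟩
    rw [hxe] at hDE
    have h0 : p * (a * t - (e - 2)) = 0 := by linear_combination (-1 : ℤ) * hDE
    rcases mul_eq_zero.mp h0 with h0 | h0
    · linarith
    · linarith

end BRT3aux

section T

variable {G : Type*} [Group G] [Fintype G] {p e t : ℕ} {P : Subgroup G} {ε : ℤ} {x₀ : ℕ}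
  {A B Y D : Finset (IrrCharacter G)}

/-- BR-T3 -/
theorem config_of (h : Tab G p e t P ε x₀ A B Y D) (hdvd : x₀ ∣ t * (p - e) * e) :
    (ε = 1 ∧ x₀ = e ∧ A.card * t + 1 = e) ∨ (ε = -1 ∧ x₀ = p - e ∧ A.card * t + 2 = e) := by
  have hp := h.hp
  have hp5 := h.hp5
  have he := h.he
  have ht := h.ht
  have het := h.het
  have hep : e ≤ p := by
    have : e ≤ e * t := Nat.le_mul_of_pos_right e (by omega)
    omega
  -- the degree equation
  have hYne : Y.Nonempty := Finset.card_pos.mp (by rw [h.cardY]; omega)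
  obtain ⟨θ, hθ⟩ := hYne
  have h1 : ¬ p ∣ orderOf (1 : G) := by
    rw [orderOf_one, Nat.dvd_one]
    omega
  have hDE := h.t1 θ hθ 1 h1
  rw [h.degY θ hθ, Finset.sum_congr rfl (fun χ hχ => h.degA χ hχ),
    Finset.sum_congr rfl (fun χ hχ => h.degB χ hχ), Finset.sum_const, Finset.sum_const,
    nsmul_eq_mul, nsmul_eq_mul] at hDE
  have hDE' : ε * (x₀ : ℤ) = 1 + (A.card : ℤ) * ((t : ℤ) * ((p : ℤ) - (e : ℤ)))
      - (B.card : ℤ) * ((p : ℤ) - 1) := by
    have h2 : ((t * (p - e) : ℕ) : ℂ) = (((t : ℤ) * ((p : ℤ) - (e : ℤ)) : ℤ) : ℂ) := by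
      push_cast [Nat.cast_sub hep]
      ring
    have h3 : ((p - 1 : ℕ) : ℂ) = ((((p : ℤ) - 1) : ℤ) : ℂ) := by
      push_cast [Nat.cast_sub (by omega : 1 ≤ p)]
      ring
    rw [h2, h3] at hDE
    exact_mod_cast hDE
  have hmod : (p : ℤ) ∣ (x₀ : ℤ) - ε * (e : ℤ) := by
    have := h.modY
    exact (Int.modEq_iff_dvd.mp this.symm)
  have hdvd' : (x₀ : ℤ) ∣ (t : ℤ) * ((p : ℤ) - (e : ℤ)) * (e : ℤ) := by
    have h2 : (((t * (p - e) * e : ℕ)) : ℤ) = (t : ℤ) * ((p : ℤ) - (e : ℤ)) * (e : ℤ) := by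
      push_cast [Nat.cast_sub hep]
      ring
    rw [← h2]
    exact Int.natCast_dvd_natCast.mpr hdvd
  have hab : (A.card : ℤ) + (B.card : ℤ) = (e : ℤ) - 1 := by
    have := h.cardAB
    omega
  have key := BRT3aux.arith (p := (p : ℤ)) (e := (e : ℤ)) (t := (t : ℤ)) (a := (A.card : ℤ))
    (b := (B.card : ℤ)) (x := (x₀ : ℤ)) (ε := ε) (Nat.prime_iff_prime_int.mp hp)
    (by exact_mod_cast hp5) (by exact_mod_cast he) (by exact_mod_cast ht)
    (by have := het; zify [show 1 ≤ p by omega] at this; exact this) hab (by positivity)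
    (by exact_mod_cast h.posB) (by exact_mod_cast h.x₀_ge) h.hε hmod hdvd' hDE'
  rcases key with ⟨k1, k2, k3⟩ | ⟨k1, k2, k3⟩
  · left
    refine ⟨k1, by exact_mod_cast k2, by exact_mod_cast k3⟩
  · right
    refine ⟨k1, ?_, by exact_mod_cast k3⟩
    zify [hep]
    exact k2

end T

end Cfsg.Agent.Lib.Helper10.BR
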