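import Mathlib

set_option autoImplicit false

namespace Cfsg.Agent.Lib.BF

open scoped ComplexConjugate

theorem lat_sum_sq_eq_one {ι : Type*} [Fintype ι] [DecidableEq ι] (f : ι → ℤ)
    (h : ∑ θ, f θ ^ 2 = 1) : ∃ a, (f a = 1 ∨ f a = -1) ∧ ∀ θ, θ ≠ a → f θ = 0 := by
  have hex : ∃ a, f a ≠ 0 := by
    by_contra hcon
    push Not at hcon
    simp [hcon] at h
  obtain ⟨a, ha⟩ := hex
  have h1 := Finset.add_sum_erase Finset.univ (fun θ => f θ ^ 2) (Finset.mem_univ a)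
  rw [h] at h1
  have hnn : 0 ≤ ∑ θ ∈ Finset.univ.erase a, f θ ^ 2 :=
    Finset.sum_nonneg (fun θ _ => sq_nonneg _)
  have hpos : 0 < f a ^ 2 := by positivity
  have hsq : f a ^ 2 = 1 := by omega
  have hrest : ∑ θ ∈ Finset.univ.erase a, f θ ^ 2 = 0 := by omega
  refine ⟨a, ?_, ?_⟩
  · have : f a ≤ 1 ∧ -1 ≤ f a := by constructor <;> nlinarith
    omega
  · intro θ hθ
    have h3 := (Finset.sum_eq_zero_iff_of_nonneg (fun θ _ => sq_nonneg (f θ))).mp hrest θ
      (Finset.mem_erase.mpr ⟨hθ, Finset.mem_univ θ⟩)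
    exact (pow_eq_zero_iff two_ne_zero).mp h3

theorem lat_second {ι : Type*} [Fintype ι] [DecidableEq ι] (f : ι → ℤ)
    (h : ∑ θ, f θ ^ 2 = 2) (a : ι) (hfa : f a = 1 ∨ f a = -1) :
    ∃ c, c ≠ a ∧ (f c = 1 ∨ f c = -1) ∧ ∀ θ, θ ≠ a → θ ≠ c → f θ = 0 := by
  have h1 := Finset.add_sum_erase Finset.univ (fun θ => f θ ^ 2) (Finset.mem_univ a)
  rw [h] at h1
  have hsq : f a ^ 2 = 1 := by rcases hfa with h | h <;> rw [h] <;> norm_num
  have hg : ∑ θ, (Function.update f a 0) θ ^ 2 = 1 := by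
    rw [← Finset.add_sum_erase Finset.univ _ (Finset.mem_univ a)]
    have h2 : ∑ θ ∈ Finset.univ.erase a, (Function.update f a 0) θ ^ 2 =
        ∑ θ ∈ Finset.univ.erase a, f θ ^ 2 := by
      apply Finset.sum_congr rfl
      intro θ hθ
      rw [Function.update_of_ne (Finset.ne_of_mem_erase hθ)]
    rw [h2, Function.update_self]
    omega
  obtain ⟨b, hb, hb0⟩ := lat_sum_sq_eq_one (Function.update f a 0) hg
  have hba : b ≠ a := by
    rintro rfl
    rw [Function.update_self] at hb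
    omega
  refine ⟨b, hba, ?_, ?_⟩
  · rwa [Function.update_of_ne hba] at hb
  · intro θ h1 h2
    have := hb0 θ h2
    rwa [Function.update_of_ne h1] at this

theorem lat_sum_sq_eq_two {ι : Type*} [Fintype ι] [DecidableEq ι] (f : ι → ℤ)
    (h : ∑ θ, f θ ^ 2 = 2) :
    ∃ a b, a ≠ b ∧ (f a = 1 ∨ f a = -1) ∧ (f b = 1 ∨ f b = -1) ∧
      ∀ θ, θ ≠ a → θ ≠ b → f θ = 0 := by
  have hex : ∃ a, f a ≠ 0 := by
    by_contra hcon
    push Not at hcon
    simp [hcon] at h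
  obtain ⟨a, ha⟩ := hex
  have h1 := Finset.add_sum_erase Finset.univ (fun θ => f θ ^ 2) (Finset.mem_univ a)
  rw [h] at h1
  have hnn : 0 ≤ ∑ θ ∈ Finset.univ.erase a, f θ ^ 2 :=
    Finset.sum_nonneg (fun θ _ => sq_nonneg _)
  have hpos : 0 < f a ^ 2 := by positivity
  have hfa : f a = 1 ∨ f a = -1 := by
    have : f a ≤ 1 ∧ -1 ≤ f a := by constructor <;> nlinarith
    omega
  obtain ⟨b, hba, hb, hb0⟩ := lat_second f h a hfa
  exact ⟨a, b, hba.symm, hfa, hb, hb0⟩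

theorem lat_sum_mul_pair {ι : Type*} [Fintype ι] [DecidableEq ι] (f g : ι → ℤ) (a b : ι)
    (hab : a ≠ b) (hf : ∀ θ, θ ≠ a → θ ≠ b → f θ = 0) :
    ∑ θ, f θ * g θ = f a * g a + f b * g b := by
  rw [← Finset.add_sum_erase Finset.univ _ (Finset.mem_univ a)]
  rw [← Finset.add_sum_erase (Finset.univ.erase a) _
    (Finset.mem_erase.mpr ⟨hab.symm, Finset.mem_univ b⟩)]
  rw [Finset.sum_eq_zero, add_zero]
  intro θ hθ
  simp only [Finset.mem_erase, Finset.mem_univ, and_true] at hθ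
  rw [hf θ hθ.2 hθ.1, zero_mul]

theorem lat_sq_add_sq_le {ι : Type*} [Fintype ι] [DecidableEq ι] (f : ι → ℤ) (a b : ι)
    (hab : a ≠ b) : f a ^ 2 + f b ^ 2 ≤ ∑ θ, f θ ^ 2 := by
  rw [← Finset.add_sum_erase Finset.univ _ (Finset.mem_univ a)]
  rw [← Finset.add_sum_erase (Finset.univ.erase a) _
    (Finset.mem_erase.mpr ⟨hab.symm, Finset.mem_univ b⟩)]
  have hnn : 0 ≤ ∑ θ ∈ (Finset.univ.erase a).erase b, f θ ^ 2 :=
    Finset.sum_nonneg (fun θ _ => sq_nonneg _)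
  linarith

theorem lat_sum_mul_ite {ι : Type*} [Fintype ι] [DecidableEq ι] (g : ι → ℤ) (a : ι) (c : ℤ) :
    ∑ θ, g θ * (if θ = a then c else 0) = g a * c := by
  simp [Finset.sum_ite_eq']

theorem lat_sum_ite_mul {ι : Type*} [Fintype ι] [DecidableEq ι] (g : ι → ℤ) (a : ι) (c : ℤ) :
    ∑ θ, (if θ = a then c else 0) * g θ = c * g a := by
  simp [Finset.sum_ite_eq']

theorem lat_sum_ite_sq {ι : Type*} [Fintype ι] [DecidableEq ι] (a : ι) (c : ℤ) :
    ∑ θ : ι, (if θ = a then c else 0) ^ 2 = c ^ 2 := by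
  have : ∀ θ : ι, (if θ = a then c else 0) ^ 2 = if θ = a then c ^ 2 else 0 := by
    intro θ
    split_ifs <;> simp
  simp [this]

/-- inner products of differences. -/
theorem lat_ip {ι : Type*} [Fintype ι] (m : ℕ) (e : ℤ) (Θ : Fin m → ι → ℤ)
    (hgram : ∀ i j, ∑ θ, Θ i θ * Θ j θ = (if i = j then 1 else 0) + e) (i j k : Fin m) :
    ∑ θ, (Θ i θ - Θ k θ) * (Θ j θ - Θ k θ) =
      (if i = j then 1 else 0) - (if i = k then 1 else 0) - (if k = j then 1 else 0) + 1 := by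
  have h : ∀ θ, (Θ i θ - Θ k θ) * (Θ j θ - Θ k θ) =
      Θ i θ * Θ j θ - Θ i θ * Θ k θ - Θ k θ * Θ j θ + Θ k θ * Θ k θ := by
    intro θ
    ring
  rw [Finset.sum_congr rfl (fun θ _ => h θ), Finset.sum_add_distrib, Finset.sum_sub_distrib,
    Finset.sum_sub_distrib, hgram, hgram, hgram, hgram]
  simp
  ring

theorem lat_diff {ι : Type*} [Fintype ι] (m : ℕ) (e : ℤ) (Θ : Fin m → ι → ℤ)
    (hgram : ∀ i j, ∑ θ, Θ i θ * Θ j θ = (if i = j then 1 else 0) + e) (i k : Fin m)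
    (hik : i ≠ k) : ∑ θ, (Θ i θ - Θ k θ) ^ 2 = 2 := by
  have h := lat_ip m e Θ hgram i i k
  simp only [if_true, if_neg hik, if_neg hik.symm] at h
  have h2 : ∑ θ, (Θ i θ - Θ k θ) ^ 2 = ∑ θ, (Θ i θ - Θ k θ) * (Θ i θ - Θ k θ) :=
    Finset.sum_congr rfl (fun θ _ => by ring)
  rw [h2, h]
  norm_num

/-- the centre `Δ` for `m ≥ 2`. -/
theorem lat_center {ι : Type*} [Fintype ι] [DecidableEq ι] (m : ℕ) (e : ℤ) (hm : 2 ≤ m)
    (Θ : Fin m → ι → ℤ)
    (hgram : ∀ i j, ∑ θ, Θ i θ * Θ j θ = (if i = j then 1 else 0) + e) :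
    ∃ Δ : ι → ℤ, ∀ i, ∑ θ, (Θ i θ - Δ θ) ^ 2 = 1 := by
  obtain ⟨i0, hi0⟩ : ∃ i0 : Fin m, i0 = ⟨0, by omega⟩ := ⟨_, rfl⟩
  obtain ⟨i1, hi1⟩ : ∃ i1 : Fin m, i1 = ⟨1, by omega⟩ := ⟨_, rfl⟩
  have h01 : i0 ≠ i1 := by
    rw [hi0, hi1]
    simp [Fin.ext_iff]
  have hdiff := lat_diff m e Θ hgram
  have hip := lat_ip m e Θ hgram
  obtain ⟨a, b, hab, ha, hb, hz⟩ :=
    lat_sum_sq_eq_two (fun θ => Θ i0 θ - Θ i1 θ) (hdiff i0 i1 h01)
  have ha' : Θ i0 a - Θ i1 a = 1 ∨ Θ i0 a - Θ i1 a = -1 := ha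
  have hb' : Θ i0 b - Θ i1 b = 1 ∨ Θ i0 b - Θ i1 b = -1 := hb
  have hz' : ∀ θ, θ ≠ a → θ ≠ b → Θ i0 θ - Θ i1 θ = 0 := hz
  have hnorm : ∀ (i : Fin m) (d : ι) (c : ℤ),
      ∑ θ, (Θ i θ - (Θ i0 θ - if θ = d then c else 0)) ^ 2 =
        ∑ θ, (Θ i θ - Θ i0 θ) ^ 2 + 2 * ((Θ i d - Θ i0 d) * c) + c ^ 2 := by
    intro i d c
    have h : ∀ θ, (Θ i θ - (Θ i0 θ - if θ = d then c else 0)) ^ 2 =
        (Θ i θ - Θ i0 θ) ^ 2 + 2 * ((Θ i θ - Θ i0 θ) * (if θ = d then c else 0)) +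
          (if θ = d then c else 0) ^ 2 := by
      intro θ
      ring
    rw [Finset.sum_congr rfl (fun θ _ => h θ), Finset.sum_add_distrib, Finset.sum_add_distrib,
      ← Finset.mul_sum, lat_sum_mul_ite (fun θ => Θ i θ - Θ i0 θ) d c, lat_sum_ite_sq]
  have hzero : ∑ θ, (Θ i0 θ - Θ i0 θ) ^ 2 = 0 := by simp
  -- the type dichotomy
  have htype : ∀ i, i ≠ i0 → i ≠ i1 →
      ((Θ i a - Θ i0 a) * (Θ i0 a - Θ i1 a) = -1 ∧ Θ i b - Θ i0 b = 0) ∨
      (Θ i a - Θ i0 a = 0 ∧ (Θ i b - Θ i0 b) * (Θ i0 b - Θ i1 b) = -1) := by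
    intro i hi0' hi1'
    have h1 := hip i i1 i0
    simp only [if_neg hi1', if_neg hi0', if_neg h01] at h1
    have h2 : ∑ θ, (Θ i0 θ - Θ i1 θ) * (Θ i θ - Θ i0 θ) = -1 := by
      have : ∀ θ, (Θ i0 θ - Θ i1 θ) * (Θ i θ - Θ i0 θ) =
          -((Θ i θ - Θ i0 θ) * (Θ i1 θ - Θ i0 θ)) := by
        intro θ
        ring
      rw [Finset.sum_congr rfl (fun θ _ => this θ), Finset.sum_neg_distrib, h1]
      norm_num
    rw [lat_sum_mul_pair (fun θ => Θ i0 θ - Θ i1 θ) (fun θ => Θ i θ - Θ i0 θ) a b hab hz] at h2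
    have h3 := lat_sq_add_sq_le (fun θ => Θ i θ - Θ i0 θ) a b hab
    rw [hdiff i i0 hi0'] at h3
    generalize Θ i a - Θ i0 a = u at h2 h3 ⊢
    generalize Θ i b - Θ i0 b = v at h2 h3 ⊢
    have hu : -1 ≤ u ∧ u ≤ 1 := by constructor <;> nlinarith [sq_nonneg v]
    have hv : -1 ≤ v ∧ v ≤ 1 := by constructor <;> nlinarith [sq_nonneg u]
    rcases ha' with h | h <;> rcases hb' with h' | h' <;> rw [h, h'] at h2 <;> rw [h, h'] <;>
      omega
  -- mixed types are impossible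
  have hmixed : ∀ i j, i ≠ i0 → j ≠ i0 →
      ((Θ i a - Θ i0 a) * (Θ i0 a - Θ i1 a) = -1 ∧ Θ i b - Θ i0 b = 0) →
      (Θ j a - Θ i0 a = 0 ∧ (Θ j b - Θ i0 b) * (Θ i0 b - Θ i1 b) = -1) → False := by
    intro i j hi0' hj0 ⟨hA1, hA2⟩ ⟨hB1, hB2⟩
    have hij : i ≠ j := by
      rintro rfl
      rw [hB1] at hA1
      simp at hA1
    have hgia : Θ i a - Θ i0 a = 1 ∨ Θ i a - Θ i0 a = -1 := by
      rcases ha' with h | h <;> rw [h] at hA1 <;> omega
    have hgjb : Θ j b - Θ i0 b = 1 ∨ Θ j b - Θ i0 b = -1 := by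
      rcases hb' with h | h <;> rw [h] at hB2 <;> omega
    obtain ⟨c, hca, hc, hcz⟩ := lat_second (fun θ => Θ i θ - Θ i0 θ) (hdiff i i0 hi0') a hgia
    obtain ⟨c', hcb', hc', hcz'⟩ :=
      lat_second (fun θ => Θ j θ - Θ i0 θ) (hdiff j i0 hj0) b hgjb
    have hc2 : Θ i c - Θ i0 c = 1 ∨ Θ i c - Θ i0 c = -1 := hc
    have hc2' : Θ j c' - Θ i0 c' = 1 ∨ Θ j c' - Θ i0 c' = -1 := hc'
    have hT : ∀ k, k ≠ i0 → ∑ θ, (Θ k θ - Θ i0 θ) * Θ i0 θ = -1 := by
      intro k hk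
      have h : ∀ θ, (Θ k θ - Θ i0 θ) * Θ i0 θ = Θ k θ * Θ i0 θ - Θ i0 θ * Θ i0 θ := by
        intro θ
        ring
      rw [Finset.sum_congr rfl (fun θ _ => h θ), Finset.sum_sub_distrib, hgram, hgram]
      simp [hk]
    have e1 := hT i1 h01.symm
    have e2 := hT i hi0'
    have e3 := hT j hj0
    have e4 := hip i j i0
    simp only [if_neg hij, if_neg hi0', if_neg hj0.symm] at e4
    have hz1 : ∀ θ, θ ≠ a → θ ≠ b → (fun θ => Θ i1 θ - Θ i0 θ) θ = 0 := by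
      intro θ h1 h2
      have := hz' θ h1 h2
      simp only
      omega
    rw [lat_sum_mul_pair (fun θ => Θ i1 θ - Θ i0 θ) _ a b hab hz1] at e1
    rw [lat_sum_mul_pair (fun θ => Θ i θ - Θ i0 θ) _ a c hca.symm hcz] at e2 e4
    rw [lat_sum_mul_pair (fun θ => Θ j θ - Θ i0 θ) _ b c' hcb'.symm hcz'] at e3
    rw [hB1, mul_zero, zero_add] at e4
    -- c = c'
    have hcc : c = c' := by
      by_contra hne
      have hcb : c ≠ b := by
        rintro rfl
        rw [hA2] at hc2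
        omega
      have : Θ j c - Θ i0 c = 0 := hcz' c hcb hne
      rw [this, mul_zero] at e4
      omega
    subst hcc
    have e1' : (Θ i0 a - Θ i1 a) * Θ i0 a + (Θ i0 b - Θ i1 b) * Θ i0 b = 1 := by
      linear_combination (-1 : ℤ) * e1
    clear e1
    generalize Θ i0 a = Ta at *
    generalize Θ i0 b = Tb at *
    generalize Θ i0 c = Tc at *
    generalize Θ i1 a = X1 at *
    generalize Θ i1 b = X2 at *
    generalize Θ i a = X3 at *
    generalize Θ i c = X4 at *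
    generalize Θ j b = X5 at *
    generalize Θ j c = X6 at *
    rcases ha' with h | h <;> rcases hb' with h' | h' <;> rcases hc2 with h'' | h'' <;>
      rcases hc2' with h3 | h3 <;> rcases hgia with h4 | h4 <;> rcases hgjb with h5 | h5 <;>
      rw [h] at hA1 e1' <;> rw [h'] at hB2 e1' <;> rw [h''] at e2 e4 <;> rw [h3] at e3 e4 <;>
      rw [h4] at e2 hA1 <;> rw [h5] at e3 hB2 <;>
      omega
  by_cases hB : ∃ j, j ≠ i0 ∧ j ≠ i1 ∧
      (Θ j a - Θ i0 a = 0 ∧ (Θ j b - Θ i0 b) * (Θ i0 b - Θ i1 b) = -1)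
  · obtain ⟨j, hj0, hj1, hjB⟩ := hB
    refine ⟨fun θ => Θ i0 θ - if θ = b then (Θ i0 b - Θ i1 b) else 0, fun i => ?_⟩
    rw [hnorm]
    by_cases hi0' : i = i0
    · rw [hi0', hzero]
      rcases hb' with h | h <;> rw [h] <;> norm_num
    by_cases hi1' : i = i1
    · rw [hi1', hdiff i1 i0 h01.symm]
      rcases hb' with h | h <;>
        [(have : Θ i1 b - Θ i0 b = -1 := by omega); (have : Θ i1 b - Θ i0 b = 1 := by omega)] <;>
        rw [h, this] <;> norm_num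
    · rw [hdiff i i0 hi0']
      rcases htype i hi0' hi1' with hA | hB'
      · exact absurd hjB (fun h => hmixed i j hi0' hj0 hA h)
      · rw [hB'.2]
        rcases hb' with h | h <;> rw [h] <;> norm_num
  · push Not at hB
    refine ⟨fun θ => Θ i0 θ - if θ = a then (Θ i0 a - Θ i1 a) else 0, fun i => ?_⟩
    rw [hnorm]
    by_cases hi0' : i = i0
    · rw [hi0', hzero]
      rcases ha' with h | h <;> rw [h] <;> norm_num
    by_cases hi1' : i = i1
    · rw [hi1', hdiff i1 i0 h01.symm]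
      rcases ha' with h | h <;>
        [(have : Θ i1 a - Θ i0 a = -1 := by omega); (have : Θ i1 a - Θ i0 a = 1 := by omega)] <;>
        rw [h, this] <;> norm_num
    · rw [hdiff i i0 hi0']
      rcases htype i hi0' hi1' with hA | hB'
      · rw [hA.1]
        rcases ha' with h | h <;> rw [h] <;> norm_num
      · exact absurd hB'.2 (hB i hi0' hi1' hB'.1)

/-- (A) the structure of the family: `Θ i = Δ + ε i • e_{a i}`. -/
theorem lat_structure {ι : Type*} [Fintype ι] [DecidableEq ι] (S : Set ι) (m : ℕ) (e : ℤ)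
    (hm : 1 ≤ m) (he : 0 ≤ e) (Θ : Fin m → ι → ℤ) (hsupp : ∀ i θ, θ ∉ S → Θ i θ = 0)
    (hgram : ∀ i j, ∑ θ, Θ i θ * Θ j θ = (if i = j then 1 else 0) + e) :
    ∃ (Δ : ι → ℤ) (a : Fin m → ι) (ε : Fin m → ℤ),
      (∀ i, ε i = 1 ∨ ε i = -1) ∧
      (∀ i θ, Θ i θ = Δ θ + if θ = a i then ε i else 0) ∧
      Function.Injective a ∧ (∀ i, a i ∈ S) ∧
      (∀ i, (m : ℤ) * (ε i * Δ (a i)) + 1 ≠ 0) := by
  rcases Nat.lt_or_ge m 2 with hm1 | hm2
  · -- m = 1
    obtain rfl : m = 1 := by omega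
    have hex : ∃ a₀, Θ 0 a₀ ≠ 0 := by
      by_contra hcon
      push Not at hcon
      have h := hgram 0 0
      simp [hcon] at h
      omega
    obtain ⟨a₀, ha₀⟩ := hex
    have ha₀S : a₀ ∈ S := by
      by_contra hn
      exact ha₀ (hsupp 0 a₀ hn)
    refine ⟨fun θ => Θ 0 θ - if θ = a₀ then 1 else 0, fun _ => a₀, fun _ => 1, fun _ => Or.inl rfl,
      ?_, ?_, fun _ => ha₀S, ?_⟩
    · intro i θ
      have hi : i = 0 := Subsingleton.elim _ _
      rw [hi]
      ring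
    · intro i j _
      exact Subsingleton.elim _ _
    · intro i
      simp only [if_true]
      have : ((1 : ℕ) : ℤ) * (1 * (Θ 0 a₀ - 1)) + 1 = Θ 0 a₀ := by push_cast; ring
      rw [this]
      exact ha₀
  · obtain ⟨Δ, hΔ⟩ := lat_center m e hm2 Θ hgram
    have hone := fun i => lat_sum_sq_eq_one (fun θ => Θ i θ - Δ θ) (hΔ i)
    choose a ha1 ha0 using hone
    have hform : ∀ i θ, Θ i θ = Δ θ + if θ = a i then (Θ i (a i) - Δ (a i)) else 0 := by
      intro i θ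
      by_cases h : θ = a i
      · rw [if_pos h, h]
        ring
      · rw [if_neg h, add_zero]
        have := ha0 i θ h
        omega
    have hinj : Function.Injective a := by
      intro i j hij
      by_contra hne
      have h2 := lat_diff m e Θ hgram i j hne
      have h3 : ∀ θ, (Θ i θ - Θ j θ) ^ 2 =
          (if θ = a i then (Θ i (a i) - Δ (a i)) - (Θ j (a j) - Δ (a j)) else 0) ^ 2 := by
        intro θ
        rw [hform i θ, hform j θ, ← hij]
        split_ifs <;> ring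
      rw [Finset.sum_congr rfl (fun θ _ => h3 θ), lat_sum_ite_sq] at h2
      have h4 := ha1 i
      have h5 := ha1 j
      rcases h4 with h4 | h4 <;> rcases h5 with h5 | h5 <;> rw [h4, h5] at h2 <;> norm_num at h2
    refine ⟨Δ, a, fun i => Θ i (a i) - Δ (a i), fun i => ha1 i, hform, hinj, ?_, ?_⟩
    · intro i
      by_contra hn
      obtain ⟨j, hj⟩ : ∃ j : Fin m, j ≠ i := by
        by_cases h0 : i = ⟨0, by omega⟩
        · exact ⟨⟨1, by omega⟩, by rw [h0]; simp [Fin.ext_iff]⟩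
        · exact ⟨⟨0, by omega⟩, fun h => h0 h.symm⟩
      have h1 := hsupp i (a i) hn
      have h2 := hsupp j (a i) hn
      rw [hform j (a i), if_neg (fun h => hj (hinj h).symm), add_zero] at h2
      have h3 := ha1 i
      omega
    · intro i
      have hm' : (2 : ℤ) ≤ (m : ℤ) := by exact_mod_cast hm2
      intro h
      rcases le_or_gt 0 ((Θ i (a i) - Δ (a i)) * Δ (a i)) with h0 | h0
      · nlinarith
      · nlinarith

/-- the weighted sum of squares of the `κ v` equals `p`. -/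
theorem lat_weight {ι V : Type*} [Fintype ι] [Fintype V] (m e p : ℕ) (hp : p = 1 + e * m)
    (hm : 1 ≤ m) (Θ : Fin m → ι → ℤ)
    (hgram : ∀ i j, ∑ θ, Θ i θ * Θ j θ = (if i = j then 1 else 0) + (e : ℤ))
    (U : V → ι → ℤ) (κ w : V → ℤ)
    (u2 : ∀ v i, ∑ θ, U v θ * Θ i θ = κ v)
    (u8 : ∀ θ, ∑ i, Θ i θ = ∑ v, w v * κ v * U v θ) :
    (p : ℤ) = ∑ v, w v * κ v ^ 2 := by
    have h1 : ∑ i, ∑ θ, Θ i θ * Θ ⟨0, hm⟩ θ = (p : ℤ) := by
      rw [Finset.sum_congr rfl (fun i _ => hgram i ⟨0, hm⟩), Finset.sum_add_distrib,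
        Finset.sum_ite_eq' Finset.univ (⟨0, hm⟩ : Fin m) (fun _ => (1 : ℤ))]
      simp [hp]
      ring
    rw [← h1, Finset.sum_comm]
    have h2 : ∀ θ, ∑ i, Θ i θ * Θ ⟨0, hm⟩ θ = ∑ v, w v * κ v * (U v θ * Θ ⟨0, hm⟩ θ) := by
      intro θ
      rw [← Finset.sum_mul, u8 θ, Finset.sum_mul]
      apply Finset.sum_congr rfl
      intro v _
      ring
    rw [Finset.sum_congr rfl (fun θ _ => h2 θ), Finset.sum_comm]
    apply Finset.sum_congr rfl
    intro v _
    rw [← Finset.mul_sum, u2]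
    ring

/-- (C) the cyclic family built from pairwise orthogonal vectors `U v` with
`⟨U v, Θ i⟩ = κ v`. -/
theorem lat_cycle {ι V : Type*} [Fintype ι] [Fintype V] (hV : 2 ≤ Fintype.card V) (S : Set ι)
    (m e p : ℕ) (hp0 : p ≠ 0) (hp : p = 1 + e * m) (hm : 1 ≤ m) (Θ : Fin m → ι → ℤ)
    (hgram : ∀ i j, ∑ θ, Θ i θ * Θ j θ = (if i = j then 1 else 0) + (e : ℤ))
    (U : V → ι → ℤ) (κ w ν : V → ℤ)
    (u1 : ∀ v θ, θ ∉ S → U v θ = 0)
    (u2 : ∀ v i, ∑ θ, U v θ * Θ i θ = κ v)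
    (u3 : ∀ v v', v ≠ v' → ∑ θ, U v θ * U v' θ = 0)
    (u4 : ∀ v, ∑ θ, U v θ ^ 2 = ν v)
    (u4' : ∀ v v', v ≠ v' → ν v' ≤ w v)
    (u5 : ∀ v, κ v ≠ 0)
    (u7 : ∀ y : ι → ℂ, (∀ θ, θ ∉ S → y θ = 0) → (∀ i, ∑ θ, y θ * (Θ i θ : ℂ) = 0) →
      (∀ v, ∑ θ, y θ * (U v θ : ℂ) = 0) → y = 0)
    (u8 : ∀ θ, ∑ i, Θ i θ = ∑ v, w v * κ v * U v θ) :
    ∃ (r : ℕ) (Φ : Fin r → ι → ℤ), 0 < r ∧
      (∀ s θ, θ ∉ S → Φ s θ = 0) ∧
      (∀ s i, ∑ θ, Φ s θ * Θ i θ = 0) ∧
      (∑ s, ∑ θ, Φ s θ ^ 2 ≤ 2 * (p : ℤ)) ∧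
      (∀ (s₀ : Fin r) (y : ι → ℂ), (∀ θ, θ ∉ S → y θ = 0) →
        (∀ i, ∑ θ, y θ * (Θ i θ : ℂ) = 0) →
        (∀ s, s ≠ s₀ → ∑ θ, y θ * (Φ s θ : ℂ) = 0) → y = 0) := by
  classical
  obtain ⟨l, hl⟩ : ∃ l, Fintype.card V = l + 1 := ⟨Fintype.card V - 1, by omega⟩
  have hl1 : 1 ≤ l := by omega
  let σ : Fin (l + 1) ≃ V := (Fintype.equivFinOfCardEq hl).symm
  have hne : ∀ k : Fin (l + 1), k + 1 ≠ k := by
    intro k h
    have h1 : (1 : Fin (l + 1)) = 0 := by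
      have := congrArg (fun t => t - k) h
      simpa using this
    obtain ⟨l', rfl⟩ : ∃ l', l = l' + 1 := ⟨l - 1, by omega⟩
    have h2 := congrArg Fin.val h1
    rw [Fin.val_one, Fin.val_zero] at h2
    omega
  have hσne : ∀ k : Fin (l + 1), σ (k + 1) ≠ σ k := fun k h => hne k (σ.injective h)
  -- the weighted sum of squares equals `p`
  have u6 : (p : ℤ) = ∑ v, w v * κ v ^ 2 :=
    lat_weight m e p hp hm Θ hgram U κ w u2 u8
  refine ⟨l + 1, fun k θ => κ (σ (k + 1)) * U (σ k) θ - κ (σ k) * U (σ (k + 1)) θ,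
    Nat.succ_pos l, ?_, ?_, ?_, ?_⟩
  · intro s θ hθ
    simp only [u1 _ θ hθ]
    ring
  · intro s i
    have h : ∀ θ, (κ (σ (s + 1)) * U (σ s) θ - κ (σ s) * U (σ (s + 1)) θ) * Θ i θ =
        κ (σ (s + 1)) * (U (σ s) θ * Θ i θ) - κ (σ s) * (U (σ (s + 1)) θ * Θ i θ) := by
      intro θ
      ring
    rw [Finset.sum_congr rfl (fun θ _ => h θ), Finset.sum_sub_distrib, ← Finset.mul_sum,
      ← Finset.mul_sum, u2, u2]
    ring
  · have hnorm : ∀ k : Fin (l + 1),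
        ∑ θ, (κ (σ (k + 1)) * U (σ k) θ - κ (σ k) * U (σ (k + 1)) θ) ^ 2 =
          κ (σ (k + 1)) ^ 2 * ν (σ k) + κ (σ k) ^ 2 * ν (σ (k + 1)) := by
      intro k
      have h : ∀ θ, (κ (σ (k + 1)) * U (σ k) θ - κ (σ k) * U (σ (k + 1)) θ) ^ 2 =
          κ (σ (k + 1)) ^ 2 * U (σ k) θ ^ 2 + κ (σ k) ^ 2 * U (σ (k + 1)) θ ^ 2 -
            2 * κ (σ (k + 1)) * κ (σ k) * (U (σ (k + 1)) θ * U (σ k) θ) := by
        intro θ
        ring
      rw [Finset.sum_congr rfl (fun θ _ => h θ), Finset.sum_sub_distrib, Finset.sum_add_distrib,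
        ← Finset.mul_sum, ← Finset.mul_sum, ← Finset.mul_sum, u4, u4, u3 _ _ (hσne k)]
      ring
    rw [Finset.sum_congr rfl (fun k _ => hnorm k), Finset.sum_add_distrib]
    have hA : ∑ k : Fin (l + 1), κ (σ (k + 1)) ^ 2 * ν (σ k) ≤ (p : ℤ) := by
      calc ∑ k : Fin (l + 1), κ (σ (k + 1)) ^ 2 * ν (σ k)
          ≤ ∑ k : Fin (l + 1), κ (σ (k + 1)) ^ 2 * w (σ (k + 1)) := by
            apply Finset.sum_le_sum
            intro k _
            exact mul_le_mul_of_nonneg_left (u4' _ _ (hσne k)) (sq_nonneg _)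
        _ = ∑ k : Fin (l + 1), κ (σ k) ^ 2 * w (σ k) :=
            Equiv.sum_comp (Equiv.addRight (1 : Fin (l + 1)))
              (fun k => κ (σ k) ^ 2 * w (σ k))
        _ = ∑ v, κ v ^ 2 * w v := Equiv.sum_comp σ (fun v => κ v ^ 2 * w v)
        _ = (p : ℤ) := by
            rw [u6]
            apply Finset.sum_congr rfl
            intro v _
            ring
    have hB : ∑ k : Fin (l + 1), κ (σ k) ^ 2 * ν (σ (k + 1)) ≤ (p : ℤ) := by
      calc ∑ k : Fin (l + 1), κ (σ k) ^ 2 * ν (σ (k + 1))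
          ≤ ∑ k : Fin (l + 1), κ (σ k) ^ 2 * w (σ k) := by
            apply Finset.sum_le_sum
            intro k _
            exact mul_le_mul_of_nonneg_left (u4' _ _ (hσne k).symm) (sq_nonneg _)
        _ = ∑ v, κ v ^ 2 * w v := Equiv.sum_comp σ (fun v => κ v ^ 2 * w v)
        _ = (p : ℤ) := by
            rw [u6]
            apply Finset.sum_congr rfl
            intro v _
            ring
    linarith
  · intro s₀ y hyS hyΘ hyΦ
    set η : V → ℂ := fun v => ∑ θ, y θ * (U v θ : ℂ) with hη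
    have hrel : ∀ k : Fin (l + 1), k ≠ s₀ →
        (κ (σ (k + 1)) : ℂ) * η (σ k) = (κ (σ k) : ℂ) * η (σ (k + 1)) := by
      intro k hk
      have h := hyΦ k hk
      have h' : ∀ θ, y θ * ((κ (σ (k + 1)) * U (σ k) θ - κ (σ k) * U (σ (k + 1)) θ : ℤ) : ℂ) =
          (κ (σ (k + 1)) : ℂ) * (y θ * (U (σ k) θ : ℂ)) -
            (κ (σ k) : ℂ) * (y θ * (U (σ (k + 1)) θ : ℂ)) := by
        intro θ
        push_cast
        ring
      rw [Finset.sum_congr rfl (fun θ _ => h' θ), Finset.sum_sub_distrib, ← Finset.mul_sum,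
        ← Finset.mul_sum] at h
      exact sub_eq_zero.mp h
    have hκ : ∀ v, (κ v : ℂ) ≠ 0 := fun v => by exact_mod_cast u5 v
    -- propagate around the cycle
    have hchain : ∀ (j : ℕ) (k : Fin (l + 1)), (k - (s₀ + 1)).val = j →
        η (σ k) * (κ (σ (s₀ + 1)) : ℂ) = η (σ (s₀ + 1)) * (κ (σ k) : ℂ) := by
      intro j
      induction j with
      | zero =>
        intro k hk
        have : k - (s₀ + 1) = 0 := Fin.ext hk
        have hk' : k = s₀ + 1 := sub_eq_zero.mp this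
        rw [hk']
      | succ j ih =>
        intro k hk
        have hk0 : k - (s₀ + 1) ≠ 0 := by
          intro h
          rw [h] at hk
          simp at hk
        have h1 : ((k - 1) - (s₀ + 1)).val = j := by
          have : (k - 1) - (s₀ + 1) = (k - (s₀ + 1)) - 1 := sub_right_comm k 1 (s₀ + 1)
          rw [this, Fin.val_sub_one_of_ne_zero hk0, hk]
          omega
        have h2 : k - 1 ≠ s₀ := by
          intro h
          apply hk0
          have hk' : k = s₀ + 1 := sub_eq_iff_eq_add.mp h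
          rw [hk', sub_self]
        have hR := hrel (k - 1) h2
        rw [sub_add_cancel] at hR
        have hI := ih (k - 1) h1
        apply mul_left_cancel₀ (hκ (σ (k - 1)))
        linear_combination (-(κ (σ (s₀ + 1)) : ℂ)) * hR + (κ (σ k) : ℂ) * hI
    have hall : ∀ v, η v * (κ (σ (s₀ + 1)) : ℂ) = η (σ (s₀ + 1)) * (κ v : ℂ) := by
      intro v
      have := hchain _ (σ.symm v) rfl
      rwa [Equiv.apply_symm_apply] at this
    -- the total relation
    have htot : ∑ v, (w v : ℂ) * (κ v : ℂ) * η v = 0 := by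
      have h1 : ∑ θ, y θ * ((∑ i, Θ i θ : ℤ) : ℂ) = 0 := by
        have : ∀ θ, y θ * ((∑ i, Θ i θ : ℤ) : ℂ) = ∑ i, y θ * (Θ i θ : ℂ) := by
          intro θ
          push_cast
          rw [Finset.mul_sum]
        rw [Finset.sum_congr rfl (fun θ _ => this θ), Finset.sum_comm]
        exact Finset.sum_eq_zero (fun i _ => hyΘ i)
      have h2 : ∀ θ, y θ * ((∑ i, Θ i θ : ℤ) : ℂ) =
          ∑ v, (w v : ℂ) * (κ v : ℂ) * (y θ * (U v θ : ℂ)) := by
        intro θ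
        rw [u8 θ]
        push_cast
        rw [Finset.mul_sum]
        apply Finset.sum_congr rfl
        intro v _
        ring
      rw [Finset.sum_congr rfl (fun θ _ => h2 θ), Finset.sum_comm] at h1
      rw [← h1]
      apply Finset.sum_congr rfl
      intro v _
      rw [← Finset.mul_sum]
    have hη0 : η (σ (s₀ + 1)) = 0 := by
      have h1 : (∑ v, (w v : ℂ) * (κ v : ℂ) * η v) * (κ (σ (s₀ + 1)) : ℂ) =
          η (σ (s₀ + 1)) * ((p : ℤ) : ℂ) := by
        rw [u6, Finset.sum_mul]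
        push_cast
        rw [Finset.mul_sum]
        apply Finset.sum_congr rfl
        intro v _
        have := hall v
        linear_combination (w v : ℂ) * (κ v : ℂ) * this
      rw [htot, zero_mul] at h1
      have hpc : ((p : ℤ) : ℂ) ≠ 0 := by exact_mod_cast hp0
      rcases mul_eq_zero.mp h1.symm with h | h
      · exact h
      · exact absurd h hpc
    have hη : ∀ v, η v = 0 := by
      intro v
      have := hall v
      rw [hη0, zero_mul] at this
      rcases mul_eq_zero.mp this with h | h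
      · exact h
      · exact absurd h (hκ _)
    exact u7 y hyS hyΘ hη

/-- **Lemma L** (lattice lemma): integer vectors with Gram matrix `I + eJ`, `p = 1 + em` prime,
give a cyclic family in the orthogonal complement of total norm at most `2p`. -/
theorem lemmaL {ι : Type*} [Fintype ι] (S : Set ι) (m e p : ℕ) (hm : 1 ≤ m) (he : 1 ≤ e)
    (hp : p = 1 + e * m) (hpp : p.Prime) (Θ : Fin m → ι → ℤ)
    (hsupp : ∀ i θ, θ ∉ S → Θ i θ = 0)
    (hgram : ∀ i j, ∑ θ, Θ i θ * Θ j θ = (if i = j then 1 else 0) + (e : ℤ))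
    (hrow : ∀ θ ∈ S, ∃ i, Θ i θ ≠ 0) :
    ∃ (r : ℕ) (Φ : Fin r → ι → ℤ), 0 < r ∧
      (∀ s θ, θ ∉ S → Φ s θ = 0) ∧
      (∀ s i, ∑ θ, Φ s θ * Θ i θ = 0) ∧
      (∑ s, ∑ θ, Φ s θ ^ 2 ≤ 2 * (p : ℤ)) ∧
      (∀ (s₀ : Fin r) (y : ι → ℂ), (∀ θ, θ ∉ S → y θ = 0) →
        (∀ i, ∑ θ, y θ * (Θ i θ : ℂ) = 0) →
        (∀ s, s ≠ s₀ → ∑ θ, y θ * (Φ s θ : ℂ) = 0) → y = 0) := by
  classical
  obtain ⟨Δ, a, ε, hε, hform, hinj, haS, hn⟩ :=
    lat_structure S m (e : ℤ) hm (by positivity) Θ hsupp hgram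
  have hε2 : ∀ i, ε i * ε i = 1 := by
    intro i
    rcases hε i with h | h <;> rw [h] <;> norm_num
  -- `Δ` vanishes off `S`
  have hΔS : ∀ θ, θ ∉ S → Δ θ = 0 := by
    intro θ hθ
    have h := hsupp ⟨0, hm⟩ θ hθ
    rw [hform ⟨0, hm⟩ θ, if_neg (fun h' : θ = a ⟨0, hm⟩ => hθ (by rw [h']; exact haS ⟨0, hm⟩)), add_zero] at h
    exact h
  -- off the range of `a`, `Θ i = Δ`
  have hoff : ∀ i θ, θ ∉ Set.range a → Θ i θ = Δ θ := by
    intro i θ hθ
    rw [hform i θ, if_neg (fun h' => hθ ⟨i, h'.symm⟩), add_zero]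
  -- on the range
  have hon : ∀ i i', Θ i (a i') = Δ (a i') + if i' = i then ε i else 0 := by
    intro i i'
    rw [hform i (a i')]
    by_cases h : i' = i
    · rw [if_pos h, if_pos (by rw [h])]
    · rw [if_neg h, if_neg (fun h' => h (hinj h'))]
  -- the constant `x`
  obtain ⟨x, hxi⟩ : ∃ x : ℤ, ∀ i, ε i * Δ (a i) = x := by
    refine ⟨ε ⟨0, hm⟩ * Δ (a ⟨0, hm⟩), ?_⟩
    intro i
    have key : ∀ j, ∑ θ, Θ j θ * Θ j θ = ∑ θ, Δ θ ^ 2 + 2 * (ε j * Δ (a j)) + 1 := by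
      intro j
      have h1 : ∀ θ, Θ j θ * Θ j θ =
          Δ θ ^ 2 + (2 * Δ θ + ε j) * (if θ = a j then ε j else 0) := by
        intro θ
        rw [hform j θ]
        split_ifs <;> ring
      rw [Finset.sum_congr rfl (fun θ _ => h1 θ), Finset.sum_add_distrib, lat_sum_mul_ite]
      have := hε2 j
      linear_combination this
    have h1 := key i
    have h2 := key ⟨0, hm⟩
    rw [hgram i i, if_pos rfl] at h1
    rw [hgram ⟨0, hm⟩ ⟨0, hm⟩, if_pos rfl] at h2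
    linarith
  have hΔa : ∀ i, Δ (a i) = ε i * x := by
    intro i
    rw [← hxi i, ← mul_assoc, hε2 i, one_mul]
  have hnx : (m : ℤ) * x + 1 ≠ 0 := by
    have := hn ⟨0, hm⟩
    rwa [hxi] at this
  -- the vector `E_A`
  obtain ⟨EA, hEA⟩ : ∃ EA : ι → ℤ, ∀ θ, EA θ = ∑ i, if θ = a i then ε i else 0 :=
    ⟨fun θ => ∑ i, if θ = a i then ε i else 0, fun _ => rfl⟩
  have hEA_a : ∀ i, EA (a i) = ε i := by
    intro i
    rw [hEA, Finset.sum_eq_single i]
    · rw [if_pos rfl]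
    · intro b _ hb
      rw [if_neg (fun h => hb (hinj h).symm)]
    · intro h
      exact absurd (Finset.mem_univ i) h
  have hEA_off : ∀ θ, θ ∉ Set.range a → EA θ = 0 := by
    intro θ hθ
    rw [hEA]
    apply Finset.sum_eq_zero
    intro i _
    rw [if_neg (fun h => hθ ⟨i, h.symm⟩)]
  have u2n : ∀ i, ∑ θ, EA θ * Θ i θ = (m : ℤ) * x + 1 := by
    intro i
    have h1 : ∀ θ, EA θ * Θ i θ = ∑ i', (if θ = a i' then ε i' else 0) * Θ i θ := by
      intro θ
      rw [hEA, Finset.sum_mul]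
    rw [Finset.sum_congr rfl (fun θ _ => h1 θ), Finset.sum_comm]
    have h2 : ∀ i', ∑ θ, (if θ = a i' then ε i' else 0) * Θ i θ =
        x + if i' = i then 1 else 0 := by
      intro i'
      rw [lat_sum_ite_mul, hon i i', mul_add, hxi i']
      by_cases h : i' = i
      · rw [if_pos h, if_pos h, h, hε2 i]
      · rw [if_neg h, if_neg h, mul_zero]
    rw [Finset.sum_congr rfl (fun i' _ => h2 i'), Finset.sum_add_distrib]
    simp
  have u4n : ∑ θ, EA θ ^ 2 = (m : ℤ) := by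
    have h1 : ∀ θ, EA θ ^ 2 = ∑ i', (if θ = a i' then ε i' else 0) * EA θ := by
      intro θ
      rw [← Finset.sum_mul, ← hEA, sq]
    rw [Finset.sum_congr rfl (fun θ _ => h1 θ), Finset.sum_comm]
    have h2 : ∀ i', ∑ θ, (if θ = a i' then ε i' else 0) * EA θ = 1 := by
      intro i'
      rw [lat_sum_ite_mul, hEA_a, hε2]
    rw [Finset.sum_congr rfl (fun i' _ => h2 i')]
    simp
  -- the index type
  obtain ⟨U, hUn, hUs⟩ : ∃ U : Option {θ : ι // θ ∈ S ∧ θ ∉ Set.range a} → ι → ℤ,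
      (∀ θ, U none θ = EA θ) ∧ (∀ r θ, U (some r) θ = if θ = r.1 then 1 else 0) :=
    ⟨fun v => v.elim EA (fun r θ => if θ = r.1 then 1 else 0), fun _ => rfl, fun _ _ => rfl⟩
  obtain ⟨κ, hκn, hκs⟩ : ∃ κ : Option {θ : ι // θ ∈ S ∧ θ ∉ Set.range a} → ℤ,
      κ none = (m : ℤ) * x + 1 ∧ (∀ r, κ (some r) = Δ r.1) :=
    ⟨fun v => v.elim ((m : ℤ) * x + 1) (fun r => Δ r.1), rfl, fun _ => rfl⟩
  obtain ⟨w, hwn, hws⟩ : ∃ w : Option {θ : ι // θ ∈ S ∧ θ ∉ Set.range a} → ℤ,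
      w none = 1 ∧ (∀ r, w (some r) = (m : ℤ)) :=
    ⟨fun v => v.elim 1 (fun _ => (m : ℤ)), rfl, fun _ => rfl⟩
  obtain ⟨ν, hνn, hνs⟩ : ∃ ν : Option {θ : ι // θ ∈ S ∧ θ ∉ Set.range a} → ℤ,
      ν none = (m : ℤ) ∧ (∀ r, ν (some r) = 1) :=
    ⟨fun v => v.elim (m : ℤ) (fun _ => 1), rfl, fun _ => rfl⟩
  have hm' : (1 : ℤ) ≤ (m : ℤ) := by exact_mod_cast hm
  have u1 : ∀ v θ, θ ∉ S → U v θ = 0 := by
    intro v θ hθ
    cases v with
    | none =>
      rw [hUn]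
      exact hEA_off θ (fun ⟨i, hi⟩ => hθ (hi ▸ haS i))
    | some r =>
      rw [hUs, if_neg (fun h : θ = r.1 => hθ (by rw [h]; exact r.2.1))]
  have u2 : ∀ v i, ∑ θ, U v θ * Θ i θ = κ v := by
    intro v i
    cases v with
    | none =>
      rw [hκn, Finset.sum_congr rfl (fun θ _ => by rw [hUn])]
      exact u2n i
    | some r =>
      rw [hκs, Finset.sum_congr rfl (fun θ _ => by rw [hUs]), lat_sum_ite_mul, one_mul,
        hoff i r.1 r.2.2]
  have u3 : ∀ v v', v ≠ v' → ∑ θ, U v θ * U v' θ = 0 := by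
    intro v v' hne
    cases v with
    | none =>
      cases v' with
      | none => exact absurd rfl hne
      | some r' =>
        rw [Finset.sum_congr rfl (fun θ _ => by rw [hUn, hUs]), lat_sum_mul_ite,
          hEA_off _ r'.2.2, zero_mul]
    | some r =>
      cases v' with
      | none =>
        rw [Finset.sum_congr rfl (fun θ _ => by rw [hUn, hUs]), lat_sum_ite_mul,
          hEA_off _ r.2.2, mul_zero]
      | some r' =>
        rw [Finset.sum_congr rfl (fun θ _ => by rw [hUs, hUs]), lat_sum_ite_mul,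
          if_neg (fun h => hne (by rw [Subtype.ext h])), mul_zero]
  have u4 : ∀ v, ∑ θ, U v θ ^ 2 = ν v := by
    intro v
    cases v with
    | none =>
      rw [hνn, Finset.sum_congr rfl (fun θ _ => by rw [hUn])]
      exact u4n
    | some r =>
      rw [hνs, Finset.sum_congr rfl (fun θ _ => by rw [hUs]), lat_sum_ite_sq, one_pow]
  have u4' : ∀ v v', v ≠ v' → ν v' ≤ w v := by
    intro v v' hne
    cases v with
    | none =>
      cases v' with
      | none => exact absurd rfl hne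
      | some r' => rw [hνs, hwn]
    | some r =>
      cases v' with
      | none => rw [hνn, hws]
      | some r' => rw [hνs, hws]; exact hm'
  have u5 : ∀ v, κ v ≠ 0 := by
    intro v
    cases v with
    | none => rw [hκn]; exact hnx
    | some r =>
      rw [hκs]
      obtain ⟨i, hi⟩ := hrow r.1 r.2.1
      rw [hoff i r.1 r.2.2] at hi
      exact hi
  have u7 : ∀ y : ι → ℂ, (∀ θ, θ ∉ S → y θ = 0) → (∀ i, ∑ θ, y θ * (Θ i θ : ℂ) = 0) →
      (∀ v, ∑ θ, y θ * (U v θ : ℂ) = 0) → y = 0 := by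
    intro y hyS hyΘ hyU
    have hyR : ∀ θ, θ ∈ S → θ ∉ Set.range a → y θ = 0 := by
      intro θ h1 h2
      have h := hyU (some ⟨θ, h1, h2⟩)
      have h' : ∀ θ', y θ' * ((U (some ⟨θ, h1, h2⟩) θ' : ℤ) : ℂ) =
          if θ' = θ then y θ' else 0 := by
        intro θ'
        rw [hUs]
        split_ifs <;> simp
      rw [Finset.sum_congr rfl (fun θ' _ => h' θ'), Finset.sum_ite_eq'] at h
      simpa using h
    have hyEA : ∑ θ, y θ * (EA θ : ℂ) = 0 := by
      have h := hyU none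
      rw [Finset.sum_congr rfl (fun θ _ => by rw [hUn])] at h
      exact h
    have hyΔ : ∑ θ, y θ * (Δ θ : ℂ) = 0 := by
      have h1 : ∀ θ, y θ * (Δ θ : ℂ) = (x : ℂ) * (y θ * (EA θ : ℂ)) := by
        intro θ
        by_cases hθ : θ ∈ Set.range a
        · obtain ⟨i, rfl⟩ := hθ
          rw [hΔa i, hEA_a i]
          push_cast
          ring
        · by_cases hθS : θ ∈ S
          · rw [hyR θ hθS hθ]
            ring
          · rw [hyS θ hθS]
            ring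
      rw [Finset.sum_congr rfl (fun θ _ => h1 θ), ← Finset.mul_sum, hyEA, mul_zero]
    have hya : ∀ i, y (a i) = 0 := by
      intro i
      have h := hyΘ i
      have h1 : ∀ θ, y θ * (Θ i θ : ℂ) =
          y θ * (Δ θ : ℂ) + if θ = a i then y θ * (ε i : ℂ) else 0 := by
        intro θ
        rw [hform i θ]
        split_ifs <;> push_cast <;> ring
      rw [Finset.sum_congr rfl (fun θ _ => h1 θ), Finset.sum_add_distrib, hyΔ, zero_add,
        Finset.sum_ite_eq'] at h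
      simp only [Finset.mem_univ, if_true] at h
      have hεc : (ε i : ℂ) ≠ 0 := by
        rcases hε i with h' | h' <;> rw [h'] <;> norm_num
      exact (mul_eq_zero.mp h).resolve_right hεc
    funext θ
    by_cases hθ : θ ∈ Set.range a
    · obtain ⟨i, rfl⟩ := hθ
      exact hya i
    · by_cases hθS : θ ∈ S
      · exact hyR θ hθS hθ
      · exact hyS θ hθS
  have u8 : ∀ θ, ∑ i, Θ i θ = ∑ v, w v * κ v * U v θ := by
    intro θ
    have hL : ∑ i, Θ i θ = (m : ℤ) * Δ θ + EA θ := by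
      rw [Finset.sum_congr rfl (fun i _ => hform i θ), Finset.sum_add_distrib, ← hEA]
      simp
    rw [hL, Fintype.sum_option, hwn, hκn, hUn,
      Finset.sum_congr rfl (fun r _ => by rw [hws, hκs, hUs])]
    by_cases hθ : θ ∈ Set.range a
    · obtain ⟨i, rfl⟩ := hθ
      have h0 : ∑ r : {θ : ι // θ ∈ S ∧ θ ∉ Set.range a},
          (m : ℤ) * Δ r.1 * (if a i = r.1 then 1 else 0) = 0 := by
        apply Finset.sum_eq_zero
        intro r _
        rw [if_neg (fun h => r.2.2 ⟨i, h⟩), mul_zero]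
      rw [h0, hΔa i, hEA_a i]
      ring
    · rw [hEA_off θ hθ]
      by_cases hθS : θ ∈ S
      · have h0 : ∑ r : {θ : ι // θ ∈ S ∧ θ ∉ Set.range a},
            (m : ℤ) * Δ r.1 * (if θ = r.1 then 1 else 0) = (m : ℤ) * Δ θ := by
          rw [Finset.sum_eq_single (⟨θ, hθS, hθ⟩ : {θ : ι // θ ∈ S ∧ θ ∉ Set.range a})]
          · simp
          · intro r _ hr
            rw [if_neg (fun h => hr (Subtype.ext h.symm)), mul_zero]
          · intro h
            exact absurd (Finset.mem_univ _) h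
        rw [h0]
        ring
      · have h0 : ∑ r : {θ : ι // θ ∈ S ∧ θ ∉ Set.range a},
            (m : ℤ) * Δ r.1 * (if θ = r.1 then 1 else 0) = 0 := by
          apply Finset.sum_eq_zero
          intro r _
          rw [if_neg (fun h : θ = r.1 => hθS (by rw [h]; exact r.2.1)), mul_zero]
        rw [h0, hΔS θ hθS]
        ring
  have hV : 2 ≤ Fintype.card (Option {θ : ι // θ ∈ S ∧ θ ∉ Set.range a}) := by
    rw [Fintype.card_option]
    by_contra hcon
    have hR0 : Fintype.card {θ : ι // θ ∈ S ∧ θ ∉ Set.range a} = 0 := by omega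
    have hRe : IsEmpty {θ : ι // θ ∈ S ∧ θ ∉ Set.range a} := Fintype.card_eq_zero_iff.mp hR0
    have h6 := lat_weight m e p hp hm Θ hgram U κ w u2 u8
    rw [Fintype.sum_option] at h6
    have h0 : ∑ r : {θ : ι // θ ∈ S ∧ θ ∉ Set.range a}, w (some r) * κ (some r) ^ 2 = 0 := by
      apply Finset.sum_eq_zero
      intro r
      exact (hRe.false r).elim
    rw [h0, add_zero, hwn, hκn, one_mul] at h6
    have h8 : ((m : ℤ) * x + 1).natAbs ^ 2 = p := by
      zify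
      rw [h6, sq_abs]
    have := ((Nat.Prime.pow_eq_iff hpp).mp h8).2
    omega
  exact lat_cycle hV S m e p hpp.ne_zero hp hm Θ hgram U κ w ν u1 u2 u3 u4 u4' u5 u7 u8

end Cfsg.Agent.Lib.BF
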