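import Cfsg.Agent.Lib.Helper32.BG12XDefs
import Cfsg.Agent.S1453

/-!
# BGX piece SOC-R3 (helper43 for helper32): the abstract core inside a `p`-group
-/

set_option autoImplicit false

open Cfsg Cfsg.Agent.Lib.Helper32 Cfsg.Agent.Lib.Helper32.BG10 Cfsg.Agent.Lib.Helper3.BG12
  Cfsg.Agent.Lib.Helper15.BG12

namespace Cfsg.Agent.Lib.Helper43.BG12X

universe u

/-- the abstract core of SOC-R3, inside the `p`-group `R` -/
theorem socr3_core {R : Type u} [Group R] [Finite R] {p : ℕ} [Fact p.Prime] (hp2 : p ≠ 2)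
    (hR : IsPGroup p R) (E : Subgroup R) (hE : IsElementaryAbelian p E)
    (hE2 : Nat.card E = p ^ 2)
    (hEmax : ∀ B : Subgroup R, IsElementaryAbelian p B → E ≤ B → B = E)
    (T : Subgroup R) (hTn : T.Normal) (hTi : T.index = p) (hcT : Subgroup.center R ≤ T)
    (hET : ¬ E ≤ T)
    (hZ : Nat.card ↥(Subgroup.closure {x : R | x ∈ Subgroup.center R ∧ x ^ p = 1}) = p)
    {x : R} (hxE : ∀ e ∈ E, x * e = e * x) (hxp : x ^ p ≠ 1)
    {X : Subgroup R} (hX : X ≤ Subgroup.zpowers x) (hXc : Nat.card X = p) :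
    ∀ g : R, ∀ y ∈ X, g * y = y * g := by
  classical
  have hp : p.Prime := Fact.out
  obtain ⟨Z, hZdef⟩ : ∃ Z : Subgroup R,
      Z = Subgroup.closure {x : R | x ∈ Subgroup.center R ∧ x ^ p = 1} := ⟨_, rfl⟩
  rw [← hZdef] at hZ
  have hZc : Z ≤ Subgroup.center R := by
    rw [hZdef, Subgroup.closure_le]
    exact fun z hz => hz.1
  have hZea : IsElementaryAbelian p Z := by
    rw [hZdef]
    apply Cfsg.Agent.S1453.elemAb_closure
    · intro u _ v hv
      exact Subgroup.mem_center_iff.mp hv.1 u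
    · exact fun u hu => hu.2
  have hZp : ∀ z ∈ Z, z ^ p = 1 := hZea.2
  have hZcomm : ∀ z ∈ Z, ∀ g : R, g * z = z * g := fun z hz g =>
    Subgroup.mem_center_iff.mp (hZc hz) g
  have hZE : Z ≤ E := by
    apply Cfsg.Agent.S1453.le_of_max hE hEmax (S := (Z : Set R))
    · intro u _ v hv
      exact hZcomm v hv u
    · intro u hu e _
      exact (hZcomm u hu e).symm
    · exact fun u hu => hZp u hu
  have hZT : Z ≤ T := hZc.trans hcT
  obtain ⟨a, haE, haT⟩ : ∃ a, a ∈ E ∧ a ∉ T := by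
    by_contra h
    push Not at h
    exact hET h
  have hap : a ^ p = 1 := hE.2 a haE
  have hcardET : Nat.card ↥(E ⊓ T) ≤ p := by
    have h1 : Nat.card ↥(E ⊓ T) ∣ p ^ 2 := by
      rw [← hE2]
      exact Subgroup.card_dvd_of_le inf_le_left
    obtain ⟨j, hj, hj2⟩ := (Nat.dvd_prime_pow hp).mp h1
    have hj1 : j ≠ 2 := by
      intro hj2'
      apply hET
      have h3 : E ⊓ T = E := Subgroup.eq_of_le_of_card_ge inf_le_left (by rw [hj2, hj2', hE2])
      exact inf_eq_left.mp h3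
    have hj' : j ≤ 1 := by omega
    rw [hj2]
    calc p ^ j ≤ p ^ 1 := Nat.pow_le_pow_right hp.pos hj'
      _ = p := pow_one p
  have hETZ : E ⊓ T = Z := by
    symm
    apply Subgroup.eq_of_le_of_card_ge (le_inf hZE hZT)
    rw [hZ]
    exact hcardET
  have hdec : ∀ g : R, ∃ i : ℕ, ∃ t ∈ T, g = a ^ i * t := by
    intro g
    have hcardQ : Nat.card (R ⧸ T) = p := by rw [← Subgroup.index_eq_card, hTi]
    have ha1 : (a : R ⧸ T) ≠ 1 := by
      intro h
      exact haT ((QuotientGroup.eq_one_iff a).mp h)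
    obtain ⟨i, hi⟩ := (Submonoid.mem_powers_iff _ _).mp
      (mem_powers_of_prime_card hcardQ ha1 (g' := (g : R ⧸ T)))
    refine ⟨i, (a ^ i)⁻¹ * g, ?_, by group⟩
    have h2 : ((a ^ i : R) : R ⧸ T) = (g : R ⧸ T) := by
      rw [QuotientGroup.mk_pow]
      exact hi
    exact QuotientGroup.eq.mp h2
  have hEdec : ∀ e ∈ E, ∃ i : ℕ, ∃ z ∈ Z, e = a ^ i * z := by
    intro e he
    obtain ⟨i, t, ht, hei⟩ := hdec e
    refine ⟨i, t, ?_, hei⟩
    rw [← hETZ]
    refine ⟨?_, ht⟩
    have h2 : t = (a ^ i)⁻¹ * e := by rw [hei]; group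
    rw [h2]
    exact E.mul_mem (E.inv_mem (E.pow_mem haE i)) he
  obtain ⟨i, t, htT, hxt⟩ := hdec x
  have hxa : x * a = a * x := hxE a haE
  have hta : Commute t a := by
    have ht : t = (a ^ i)⁻¹ * x := by rw [hxt]; group
    rw [ht]
    have h1 : Commute (a ^ i)⁻¹ a := ((Commute.refl a).pow_left i).inv_left
    have h2 : Commute x a := hxa
    exact h1.mul_left h2
  have hxpt : x ^ p = t ^ p := by
    have hc : Commute (a ^ i) t := hta.symm.pow_left i
    rw [hxt, hc.mul_pow, ← pow_mul, mul_comm i p, pow_mul, hap, one_pow, one_mul]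
  obtain ⟨D, hDdef⟩ : ∃ D : Subgroup R, D = T ⊓ Subgroup.centralizer ({a} : Set R) := ⟨_, rfl⟩
  have hmemD : ∀ d, d ∈ D ↔ d ∈ T ∧ d * a = a * d := by
    intro d
    rw [hDdef, Subgroup.mem_inf, Subgroup.mem_centralizer_singleton_iff]
  have hZD : Z ≤ D := by
    intro z hz
    rw [hmemD]
    exact ⟨hZT hz, (hZcomm z hz a).symm⟩
  have hDp : IsPGroup p D := hR.to_subgroup D
  have hDcyc : IsCyclic ↥D := by
    by_contra hnc
    have h2' := not_rankLE_one_of_not_cyclic hp2 hDp hnc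
    obtain ⟨r, B, hr, hBD, hBc, hBp, hBcard⟩ := exists_elemAb_of_not_rankLE D 1 h2'
    have hBq : IsPGroup p B := hDp.to_le hBD
    obtain ⟨k, hk⟩ := IsPGroup.iff_card.mp hBq
    have hrq : r = p := by
      have h3 : r ∣ p ^ k := by
        rw [← hk, hBcard]
        exact dvd_pow_self r (by norm_num)
      exact (Nat.prime_dvd_prime_iff_eq hr hp).mp (hr.dvd_of_dvd_pow h3)
    rw [hrq] at hBp hBcard
    have hBE : (B : Set R) ⊆ (E : Set R) := by
      apply Cfsg.Agent.S1453.le_of_max hE hEmax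
      · exact fun u hu v hv => hBc u hu v hv
      · intro u hu e he
        obtain ⟨j, z, hz, rfl⟩ := hEdec e he
        have hua : Commute u a := ((hmemD u).mp (hBD hu)).2
        have h1 : Commute u (a ^ j) := hua.pow_right j
        have h2 : Commute u z := hZcomm z hz u
        exact (h1.mul_right h2).eq
      · exact fun u hu => hBp u hu
    have hBET : B ≤ E ⊓ T := fun b hb => ⟨hBE hb, ((hmemD b).mp (hBD hb)).1⟩
    have h4 : Nat.card B ≤ Nat.card ↥(E ⊓ T) := Subgroup.card_le_of_le hBET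
    rw [hBcard] at h4
    have h5 : p ^ 1 < p ^ (1 + 1) := Nat.pow_lt_pow_right hp.one_lt (by norm_num)
    rw [pow_one] at h5
    omega
  have hDZ : ∀ d ∈ D, d ^ p = 1 → d ∈ Z := by
    intro d hd hdp
    have hcycD : IsCyclic ↥D := hDcyc
    let _instD : Fintype ↥D := Fintype.ofFinite _
    let _instZ : Fintype ↥Z := Fintype.ofFinite _
    have h1 := IsCyclic.card_pow_eq_one_le (α := ↥D) hp.pos
    have hsub : (Finset.univ.filter (fun d' : ↥D => (d' : R) ∈ Z)) ⊆
        (Finset.univ.filter (fun d' : ↥D => d' ^ p = 1)) := by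
      intro d' hd'
      rw [Finset.mem_filter] at hd' ⊢
      refine ⟨Finset.mem_univ _, Subtype.ext ?_⟩
      rw [Subgroup.coe_pow, Subgroup.coe_one]
      exact hZp _ hd'.2
    have hle : p ≤ (Finset.univ.filter (fun d' : ↥D => (d' : R) ∈ Z)).card := by
      have h2 : (Finset.univ : Finset ↥Z).card ≤
          (Finset.univ.filter (fun d' : ↥D => (d' : R) ∈ Z)).card := by
        apply Finset.card_le_card_of_injOn (fun z : ↥Z => (⟨z.1, hZD z.2⟩ : ↥D))
        · intro z _
          rw [Finset.coe_filter]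
          exact ⟨Finset.mem_univ _, z.2⟩
        · intro z₁ _ z₂ _ h
          apply Subtype.ext
          exact congrArg (fun w : ↥D => (w : R)) h
      rw [Finset.card_univ, ← Nat.card_eq_fintype_card, hZ] at h2
      exact h2
    have heq : (Finset.univ.filter (fun d' : ↥D => (d' : R) ∈ Z)) =
        (Finset.univ.filter (fun d' : ↥D => d' ^ p = 1)) :=
      Finset.eq_of_subset_of_card_le hsub (h1.trans hle)
    have hmem : (⟨d, hd⟩ : ↥D) ∈ (Finset.univ.filter (fun d' : ↥D => d' ^ p = 1)) := by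
      rw [Finset.mem_filter]
      exact ⟨Finset.mem_univ _, Subtype.ext (by rw [Subgroup.coe_pow, Subgroup.coe_one]; exact hdp)⟩
    rw [← heq, Finset.mem_filter] at hmem
    exact hmem.2
  -- the elements of `X`
  intro g y hy
  have hyx : y ∈ Subgroup.zpowers x := hX hy
  obtain ⟨k, hk⟩ := (Submonoid.mem_powers_iff _ _).mp (mem_powers_iff_mem_zpowers.mpr hyx)
  have hyp : y ^ p = 1 := by
    have h1 : (⟨y, hy⟩ : ↥X) ^ Nat.card X = 1 := pow_card_eq_one'
    rw [hXc] at h1
    have h2 := congrArg (fun w : ↥X => (w : R)) h1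
    simpa using h2
  -- `p ∣ k`
  have hpk : p ∣ k := by
    obtain ⟨m, hm⟩ := (hR x)
    have h1 : orderOf x ∣ p ^ m := orderOf_dvd_of_pow_eq_one hm
    obtain ⟨j, hj, hj2⟩ := (Nat.dvd_prime_pow hp).mp h1
    have hj1 : 2 ≤ j := by
      by_contra hlt
      apply hxp
      have hj' : j ≤ 1 := by omega
      have h2 : orderOf x ∣ p := by
        rw [hj2]
        calc p ^ j ∣ p ^ 1 := pow_dvd_pow p hj'
          _ = p := pow_one p
      exact orderOf_dvd_iff_pow_eq_one.mp h2
    have h3 : x ^ (k * p) = 1 := by rw [pow_mul, hk, hyp]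
    have h4 : orderOf x ∣ k * p := orderOf_dvd_of_pow_eq_one h3
    have h5 : p ^ 2 ∣ k * p := by
      calc p ^ 2 ∣ p ^ j := pow_dvd_pow p hj1
        _ = orderOf x := hj2.symm
        _ ∣ k * p := h4
    have h6 : p * p ∣ k * p := by rwa [← sq]
    exact Nat.dvd_of_mul_dvd_mul_right hp.pos h6
  obtain ⟨k', rfl⟩ := hpk
  have hyD : y ∈ D := by
    rw [hmemD]
    constructor
    · rw [← hk, pow_mul, hxpt]
      exact T.pow_mem (T.pow_mem htT p) k'
    · rw [← hk]
      exact ((show Commute x a from hxa).pow_left (p * k')).eq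
  exact hZcomm y (hDZ y hyD hyp) g

end Cfsg.Agent.Lib.Helper43.BG12X
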