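import Mathlib
import Cfsg.Prelude.Def_Transfer
import Cfsg.Agent.Lib.Helper37.Inv.QM
import Cfsg.Agent.Lib.Helper3.Extra4

/-!
# S2135 piece J3I-X (helper43): a group with the multiplication table `Helper37.Inv.qm` is
extraspecial of order `32` without elementary abelian subgroups of order `8`.
-/

set_option autoImplicit false

namespace Cfsg.Agent.Lib.Helper43.J3IX

open Cfsg.Agent.Lib.Helper37.Inv

theorem T1 : ∀ i < 32, ∀ j < 32, qm i j < 32 := by decide +kernel
theorem T2 : qm 0 0 = 0 := by decide +kernel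
theorem T3 : ∀ c < 32, (∀ g < 32, qm g c = qm c g) → c = 0 ∨ c = 16 := by decide +kernel
theorem T4 : ∀ g < 32, qm g 16 = qm 16 g := by decide +kernel
theorem T5 : qm 16 16 = 0 := by decide +kernel
theorem T6 : ∀ a < 32, qm a a = 0 ∨ qm a a = 16 := by decide +kernel
theorem T7 : ∀ a < 32, ∀ b < 32, qm a b = qm b a ∨ qm a b = qm 16 (qm b a) := by
  decide +kernel
theorem T8 : qm 1 2 ≠ qm 2 1 := by decide +kernel
set_option synthInstance.maxHeartbeats 400000 in
set_option synthInstance.maxSize 4096 in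
theorem T9 : ∀ x < 32, ∀ y < 32, ∀ w < 32,
    (qm x x = 0 ∧ qm y y = 0 ∧ qm x y = qm y x ∧ qm w w = 0 ∧ qm x w = qm w x ∧
      qm y w = qm w y) →
    (x = 0 ∨ y = 0 ∨ x = y ∨ w = 0 ∨ w = x ∨ w = y ∨ w = qm x y) := by decide +kernel

theorem extra_of_table {P : Type*} [Group P] (f : ℕ → P)
    (hsurj : ∀ p : P, ∃ i < 32, f i = p)
    (hinj : ∀ i < 32, ∀ j < 32, f i = f j → i = j)
    (hmul : ∀ i < 32, ∀ j < 32, f i * f j = f (Cfsg.Agent.Lib.Helper37.Inv.qm i j)) :
    Cfsg.IsExtraspecial 2 P ∧ Nat.card P = 32 ∧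
      ∀ E : Subgroup P, Cfsg.IsElementaryAbelian 2 E → Nat.card E ≤ 2 ^ 2 := by
  classical
  have hbij : Function.Bijective (fun i : Fin 32 => f i) := by
    constructor
    · intro a b hab
      exact Fin.ext (hinj a a.2 b b.2 hab)
    · intro p
      obtain ⟨i, hi, rfl⟩ := hsurj p
      exact ⟨⟨i, hi⟩, rfl⟩
  have hfin : Finite P := Finite.of_surjective _ hbij.2
  have hcard : Nat.card P = 32 := by
    rw [← Nat.card_congr (Equiv.ofBijective _ hbij), Nat.card_eq_fintype_card, Fintype.card_fin]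
  have h16 : (16 : ℕ) < 32 := by norm_num
  have h0 : (0 : ℕ) < 32 := by norm_num
  have hf0 : f 0 = 1 := by
    have h := hmul 0 h0 0 h0
    rw [T2] at h
    have h' : f 0 * f 0 = f 0 * 1 := by rw [h, mul_one]
    exact mul_left_cancel h'
  have hz1 : f 16 ≠ 1 := by
    rw [← hf0]
    intro h
    have := hinj 16 h16 0 h0 h
    omega
  have hz2 : f 16 ^ 2 = 1 := by rw [pow_two, hmul 16 h16 16 h16, T5, hf0]
  have hzc : ∀ g, g * f 16 = f 16 * g := by
    intro g
    obtain ⟨i, hi, rfl⟩ := hsurj g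
    rw [hmul i hi 16 h16, hmul 16 h16 i hi, T4 i hi]
  have hP : IsPGroup 2 P := IsPGroup.of_card (n := 5) (by rw [hcard]; norm_num)
  have hes : Cfsg.IsExtraspecial 2 P := by
    apply Cfsg.Agent.Lib.Helper3.Extra4.es2_of_data hP (f 16) hz1 hz2 hzc
    · intro c hc
      obtain ⟨i, hi, rfl⟩ := hsurj c
      have h1 : ∀ g < 32, qm g i = qm i g := by
        intro g hg
        apply hinj _ (T1 g hg i hi) _ (T1 i hi g hg)
        rw [← hmul g hg i hi, ← hmul i hi g hg]
        exact hc (f g)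
      rcases T3 i hi h1 with h | h
      · left
        rw [h, hf0]
      · right
        rw [h]
    · intro a b
      obtain ⟨i, hi, rfl⟩ := hsurj a
      obtain ⟨j, hj, rfl⟩ := hsurj b
      rcases T7 i hi j hj with h | h
      · refine ⟨1, fun g => by rw [mul_one, one_mul], ?_⟩
        rw [one_mul, hmul i hi j hj, hmul j hj i hi, h]
      · refine ⟨f 16, hzc, ?_⟩
        rw [mul_assoc, hmul j hj i hi, hmul 16 h16 _ (T1 j hj i hi), hmul i hi j hj, h]
    · intro a g
      obtain ⟨i, hi, rfl⟩ := hsurj a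
      rw [pow_two, hmul i hi i hi]
      rcases T6 i hi with h | h
      · rw [h, hf0, mul_one, one_mul]
      · rw [h]
        exact hzc g
    · have h1 : (1 : ℕ) < 32 := by norm_num
      have h2 : (2 : ℕ) < 32 := by norm_num
      refine ⟨f 1, f 2, ?_⟩
      rw [hmul 1 h1 2 h2, hmul 2 h2 1 h1]
      intro h
      exact T8 (hinj _ (T1 1 h1 2 h2) _ (T1 2 h2 1 h1) h)
  refine ⟨hes, hcard, fun E hE => ?_⟩
  obtain ⟨hEc, hE2⟩ := hE
  by_contra hgt
  push Not at hgt
  have hpick : ∀ T : Finset P, T.card < Nat.card E → ∃ w ∈ E, w ∉ T := by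
    intro T hT
    by_contra hcon
    push Not at hcon
    have h1 : (E : Set P) ⊆ (T : Set P) := fun w hw => hcon w hw
    have h2 := Set.ncard_le_ncard h1 (Finset.finite_toSet T)
    rw [Set.ncard_coe_finset] at h2
    have h3 : Nat.card E = (E : Set P).ncard := rfl
    omega
  obtain ⟨x, hxE, hx⟩ := hpick {1} (by rw [Finset.card_singleton]; omega)
  obtain ⟨y, hyE, hy⟩ := hpick {1, x} (lt_of_le_of_lt Finset.card_le_two (by omega))
  obtain ⟨w, hwE, hw⟩ := hpick {1, x, y, x * y} (lt_of_le_of_lt Finset.card_le_four (by omega))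
  simp only [Finset.mem_insert, Finset.mem_singleton, not_or] at hx hy hw
  obtain ⟨i, hi, rfl⟩ := hsurj x
  obtain ⟨j, hj, rfl⟩ := hsurj y
  obtain ⟨l, hl, rfl⟩ := hsurj w
  have hsq : ∀ a < 32, f a ∈ E → qm a a = 0 := by
    intro a ha haE
    apply hinj _ (T1 a ha a ha) 0 h0
    rw [← hmul a ha a ha, hf0, ← pow_two]
    exact hE2 _ haE
  have hcm : ∀ a < 32, ∀ b < 32, f a ∈ E → f b ∈ E → qm a b = qm b a := by
    intro a ha b hb haE hbE
    apply hinj _ (T1 a ha b hb) _ (T1 b hb a ha)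
    rw [← hmul a ha b hb, ← hmul b hb a ha]
    exact congrArg Subtype.val (hEc.is_comm.comm ⟨f a, haE⟩ ⟨f b, hbE⟩)
  have h9 := T9 i hi j hj l hl ⟨hsq i hi hxE, hsq j hj hyE, hcm i hi j hj hxE hyE,
    hsq l hl hwE, hcm i hi l hl hxE hwE, hcm j hj l hl hyE hwE⟩
  rcases h9 with h | h | h | h | h | h | h
  · exact hx (by rw [h, hf0])
  · exact hy.1 (by rw [h, hf0])
  · exact hy.2 (by rw [h])
  · exact hw.1 (by rw [h, hf0])
  · exact hw.2.1 (by rw [h])
  · exact hw.2.2.1 (by rw [h])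
  · exact hw.2.2.2 (by rw [h, hmul i hi j hj])

end Cfsg.Agent.Lib.Helper43.J3IX
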