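import Mathlib

/-!
# S3913, piece SEMI (for helper69)

* `ringAut_cyclic`: the ring automorphism group of a finite field is cyclic.
* `semilinear_char`: a group of semilinear maps of a finite field without proper subfields which
  stabilises a proper non-zero additive subgroup maps to `Aut(F)` with kernel consisting of
  scalars of the prime field.
-/

set_option autoImplicit false

namespace Cfsg.Agent.Lib.Helper43.BG

theorem ringAut_cyclic (F : Type) [Field F] [Fintype F] : IsCyclic (F ≃+* F) := by
  classical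
  obtain ⟨q, hq⟩ : ∃ q, q = ringChar F := ⟨_, rfl⟩
  have hch : CharP F q := by rw [hq]; exact ringChar.charP F
  have hqp : q.Prime := CharP.char_is_prime F q
  have : Fact q.Prime := ⟨hqp⟩
  let alg : Algebra (ZMod q) F := ZMod.algebra F q
  have hcomm : ∀ (σ : F ≃+* F) (r : ZMod q), σ (algebraMap (ZMod q) F r) = algebraMap (ZMod q) F r := by
    intro σ r
    have h1 : (σ : F →+* F).comp (algebraMap (ZMod q) F) = algebraMap (ZMod q) F :=
      Subsingleton.elim _ _
    exact congrArg (fun f : ZMod q →+* F => f r) h1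
  let φ : (F ≃+* F) →* (F ≃ₐ[ZMod q] F) :=
    { toFun := fun σ => AlgEquiv.ofRingEquiv (f := σ) (hcomm σ)
      map_one' := by
        ext x
        rfl
      map_mul' := by
        intro σ τ
        ext x
        rfl }
  have hφ : Function.Injective φ := by
    intro σ τ h
    ext x
    have h1 := congrArg (fun f : F ≃ₐ[ZMod q] F => f x) h
    exact h1
  exact isCyclic_of_injective φ hφ

theorem semilinear_char (p : ℕ) [Fact p.Prime] {V : Type*} [AddCommGroup V] [Module (ZMod p) V]
    [Finite V] (F : Type) [Field F] [Fintype F] (e : V ≃+ F)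
    (hsub : ∀ E : Subfield F, E = ⊥ ∨ E = ⊤)
    (U : AddSubgroup V) (hU0 : U ≠ ⊥) (hU1 : U ≠ ⊤)
    (S : Subgroup (V ≃ₗ[ZMod p] V)) (hSU : ∀ g ∈ S, ∀ u ∈ U, g u ∈ U)
    (hsl : ∀ g ∈ S, ∃ (a : F) (σ : F ≃+* F), ∀ v : V, e (g v) = a * σ (e v)) :
    ∃ χ : ↥S →* (F ≃+* F), ∀ s : ↥S, χ s = 1 →
      ∃ k : ZMod p, ∀ v : V, (s : V ≃ₗ[ZMod p] V) v = k • v := by
  classical
  have hp : p.Prime := Fact.out
  -- `F` has characteristic `p`
  have hpF : (p : F) = 0 := by
    have h1 : p • e.symm 1 = 0 := by
      rw [← Nat.cast_smul_eq_nsmul (ZMod p), ZMod.natCast_self, zero_smul]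
    have h2 := congrArg e h1
    rw [map_nsmul, AddEquiv.apply_symm_apply, map_zero, nsmul_eq_mul, mul_one] at h2
    exact h2
  have hch : CharP F p := (CharP.charP_iff_prime_eq_zero hp).mpr hpF
  -- the unit vector
  obtain ⟨v1, hv1⟩ : ∃ v1 : V, e v1 = 1 := ⟨e.symm 1, e.apply_symm_apply 1⟩
  -- uniqueness of the pair `(a, σ)`
  have huniq : ∀ (g : V ≃ₗ[ZMod p] V) (a a' : F) (σ σ' : F ≃+* F),
      (∀ v : V, e (g v) = a * σ (e v)) → (∀ v : V, e (g v) = a' * σ' (e v)) →
      a = a' ∧ σ = σ' := by
    intro g a a' σ σ' h1 h2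
    have ha : a = a' := by
      have h3 := h1 v1
      rw [h2 v1, hv1, map_one, map_one, mul_one, mul_one] at h3
      exact h3.symm
    have ha0 : a ≠ 0 := by
      intro h0
      have h3 := h1 v1
      rw [h0, zero_mul] at h3
      have h4 : g v1 = 0 := by
        apply e.injective
        rw [h3, map_zero]
      have h5 : v1 = 0 := by
        apply g.injective
        rw [h4, map_zero]
      rw [h5, map_zero] at hv1
      exact zero_ne_one hv1
    refine ⟨ha, ?_⟩
    ext x
    have h3 := h1 (e.symm x)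
    rw [h2 (e.symm x), AddEquiv.apply_symm_apply, ← ha] at h3
    exact (mul_left_cancel₀ ha0 h3).symm
  -- choose the pair for every element of `S`
  have hex : ∀ s : ↥S, ∃ aσ : F × (F ≃+* F),
      ∀ v : V, e ((s : V ≃ₗ[ZMod p] V) v) = aσ.1 * aσ.2 (e v) := by
    intro s
    obtain ⟨a, σ, h⟩ := hsl s.1 s.2
    exact ⟨(a, σ), h⟩
  choose A hA using hex
  have hmul : ∀ s t : ↥S, (A (s * t)).2 = (A s).2 * (A t).2 := by
    intro s t
    have h1 : ∀ v : V, e (((s * t : ↥S) : V ≃ₗ[ZMod p] V) v)
        = ((A s).1 * (A s).2 (A t).1) * ((A s).2 * (A t).2) (e v) := by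
      intro v
      have h2 : ((s * t : ↥S) : V ≃ₗ[ZMod p] V) v
          = (s : V ≃ₗ[ZMod p] V) ((t : V ≃ₗ[ZMod p] V) v) := rfl
      rw [h2, hA s, hA t, map_mul, mul_assoc]
      rfl
    exact (huniq _ _ _ _ _ (hA (s * t)) h1).2
  refine ⟨MonoidHom.mk' (fun s => (A s).2) hmul, ?_⟩
  intro s hs
  have hs' : (A s).2 = 1 := hs
  have hsv : ∀ v : V, e ((s : V ≃ₗ[ZMod p] V) v) = (A s).1 * e v := by
    intro v
    rw [hA s v, hs']
    rfl
  -- the multiplier ring of `e '' U`
  let R : Subfield F :=
    { carrier := {x : F | ∀ y : F, e.symm y ∈ U → e.symm (x * y) ∈ U}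
      mul_mem' := by
        intro x x' hx hx' y hy
        rw [mul_assoc]
        exact hx _ (hx' y hy)
      one_mem' := by
        intro y hy
        rw [one_mul]
        exact hy
      add_mem' := by
        intro x x' hx hx' y hy
        rw [add_mul, map_add]
        exact U.add_mem (hx y hy) (hx' y hy)
      zero_mem' := by
        intro y hy
        rw [zero_mul, map_zero]
        exact U.zero_mem
      neg_mem' := by
        intro x hx y hy
        rw [neg_mul, map_neg]
        exact U.neg_mem (hx y hy)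
      inv_mem' := by
        intro x hx
        by_cases hx0 : x = 0
        · intro y hy
          rw [hx0, inv_zero, zero_mul, map_zero]
          exact U.zero_mem
        · intro y hy
          let f : {y : F // e.symm y ∈ U} → {y : F // e.symm y ∈ U} :=
            fun y => ⟨x * y.1, hx y.1 y.2⟩
          have hf : Function.Injective f := by
            intro y1 y2 h
            have h1 : x * y1.1 = x * y2.1 := congrArg Subtype.val h
            exact Subtype.ext (mul_left_cancel₀ hx0 h1)
          obtain ⟨y', hy'⟩ := (Finite.injective_iff_surjective.mp hf) ⟨y, hy⟩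
          have h2 : x * y'.1 = y := congrArg Subtype.val hy'
          have h3 : x⁻¹ * y = y'.1 := by
            rw [← h2, ← mul_assoc, inv_mul_cancel₀ hx0, one_mul]
          rw [h3]
          exact y'.2 }
  have hR : ∀ x : F, x ∈ R ↔ ∀ y : F, e.symm y ∈ U → e.symm (x * y) ∈ U := fun x => Iff.rfl
  have haR : (A s).1 ∈ R := by
    rw [hR]
    intro y hy
    have h1 := hSU s.1 s.2 _ hy
    have h2 := hsv (e.symm y)
    rw [AddEquiv.apply_symm_apply] at h2
    rw [← h2, AddEquiv.symm_apply_apply]
    exact h1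
  have hRtop : R ≠ ⊤ := by
    intro htop
    apply hU1
    rw [eq_top_iff]
    intro v _
    obtain ⟨u0, hu0, hu00⟩ : ∃ u0 ∈ U, u0 ≠ 0 := by
      by_contra hcon
      push Not at hcon
      apply hU0
      rw [eq_bot_iff]
      intro u hu
      rw [AddSubgroup.mem_bot]
      exact hcon u hu
    have hy0 : e u0 ≠ 0 := by
      intro h0
      apply hu00
      apply e.injective
      rw [h0, map_zero]
    have h1 : e v * (e u0)⁻¹ ∈ R := by rw [htop]; exact Subfield.mem_top _
    rw [hR] at h1
    have h2 := h1 (e u0) (by rw [AddEquiv.symm_apply_apply]; exact hu0)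
    rw [mul_assoc, inv_mul_cancel₀ hy0, mul_one, AddEquiv.symm_apply_apply] at h2
    exact h2
  have hRbot : R = ⊥ := (hsub R).resolve_right hRtop
  have haP : (A s).1 ∈ (ZMod.castHom (dvd_refl p) F).fieldRange := by
    have h1 : (⊥ : Subfield F) ≤ (ZMod.castHom (dvd_refl p) F).fieldRange := bot_le
    apply h1
    rw [← hRbot]
    exact haR
  obtain ⟨z, hz⟩ := RingHom.mem_fieldRange.mp haP
  refine ⟨z, fun v => ?_⟩
  apply e.injective
  rw [hsv v, ← hz]
  have h1 : z • v = z.val • v := by
    rw [← Nat.cast_smul_eq_nsmul (ZMod p), ZMod.natCast_zmod_val]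
  have h2 : ZMod.castHom (dvd_refl p) F z = (z.val : F) := by
    conv_lhs => rw [← ZMod.natCast_zmod_val z]
    rw [map_natCast]
  rw [h1, map_nsmul, nsmul_eq_mul, h2]

end Cfsg.Agent.Lib.Helper43.BG
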