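import Mathlib

/-!
# S3913, piece SUBF (for helper69)

A group of semilinear maps of a finite field `F` (viewed on an `𝔽_p`-space `V ≃+ F`) cannot be
transitive on the `𝔽_p`-planes when `F` has a proper intermediate subfield.
-/

set_option autoImplicit false

namespace Cfsg.Agent.Lib.Helper43.BG

/-- A ring automorphism of a finite field maps every subfield into itself. -/
theorem ringAut_map_subfield (p : ℕ) [Fact p.Prime] (F : Type) [Field F] [Fintype F]
    [CharP F p] (E : Subfield F) (σ : F ≃+* F) (x : F) (hx : x ∈ E) : σ x ∈ E := by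
  classical
  let alg : Algebra (ZMod p) F := ZMod.algebra F p
  have hcomm : ∀ r : ZMod p, σ (algebraMap (ZMod p) F r) = algebraMap (ZMod p) F r := by
    intro r
    have h1 : (σ : F →+* F).comp (algebraMap (ZMod p) F) = algebraMap (ZMod p) F :=
      Subsingleton.elim _ _
    exact congrArg (fun f : ZMod p →+* F => f r) h1
  obtain ⟨n, hn⟩ := (FiniteField.bijective_frobeniusAlgEquivOfAlgebraic_pow (ZMod p) F).2
    (AlgEquiv.ofRingEquiv (f := σ) hcomm)
  have hpow : ∀ (k : ℕ) (y : F), y ∈ E →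
      (FiniteField.frobeniusAlgEquivOfAlgebraic (ZMod p) F ^ k) y ∈ E := by
    intro k
    induction k with
    | zero => intro y hy; simpa using hy
    | succ k ih =>
      intro y hy
      rw [pow_succ, AlgEquiv.mul_apply]
      apply ih
      rw [FiniteField.coe_frobeniusAlgEquivOfAlgebraic]
      exact pow_mem hy _
  have h1 := hpow n.1 x hx
  have h2 : (FiniteField.frobeniusAlgEquivOfAlgebraic (ZMod p) F ^ n.1) x = σ x := by
    have h3 := congrArg (fun f : F ≃ₐ[ZMod p] F => f x) hn
    exact h3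
  rwa [h2] at h1

theorem subfield_contra (p : ℕ) [Fact p.Prime] {V : Type*} [AddCommGroup V] [Module (ZMod p) V]
    [Finite V] (F : Type) [Field F] [Fintype F] (e : V ≃+ F)
    (E : Subfield F) (hE0 : E ≠ ⊥) (hE1 : E ≠ ⊤)
    (Γ : Subgroup (V ≃ₗ[ZMod p] V))
    (hsl : ∀ g ∈ Γ, ∃ (a : F) (σ : F ≃+* F), ∀ v : V, e (g v) = a * σ (e v))
    (htr : ∀ U U' : AddSubgroup V, Nat.card ↥U = p ^ 2 → Nat.card ↥U' = p ^ 2 →
      ∃ g ∈ Γ, ∀ u ∈ U, g u ∈ U') : False := by
  classical
  have hp : p.Prime := Fact.out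
  -- `F` has characteristic `p`
  have hpF : (p : F) = 0 := by
    have h1 : p • e.symm 1 = 0 := by
      rw [← Nat.cast_smul_eq_nsmul (ZMod p), ZMod.natCast_self, zero_smul]
    have h2 := congrArg e h1
    rw [map_nsmul, AddEquiv.apply_symm_apply, map_zero, nsmul_eq_mul, mul_one] at h2
    exact h2
  have hch : CharP F p := (CharP.charP_iff_prime_eq_zero hp).mpr hpF
  -- the prime field
  obtain ⟨ι, hι⟩ : ∃ ι : ZMod p →+* F, ι = ZMod.castHom (dvd_refl p) F := ⟨_, rfl⟩
  have hιinj : Function.Injective ι := ι.injective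
  have hιK : ∀ (K : Subfield F) (z : ZMod p), ι z ∈ K := by
    intro K z
    have h1 : ι z = (z.val : F) := by
      conv_lhs => rw [← ZMod.natCast_zmod_val z]
      rw [map_natCast]
    rw [h1]
    exact natCast_mem K _
  -- the two parameters
  obtain ⟨c1, hc1E, hc1⟩ : ∃ c1 ∈ E, ∀ z : ZMod p, ι z ≠ c1 := by
    by_contra hcon
    push Not at hcon
    apply hE0
    rw [eq_bot_iff]
    intro c hc
    obtain ⟨z, hz⟩ := hcon c hc
    rw [← hz]
    exact hιK ⊥ z
  obtain ⟨c2, hc2E⟩ : ∃ c2, c2 ∉ E := by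
    by_contra hcon
    push Not at hcon
    apply hE1
    rw [eq_top_iff]
    intro c _
    exact hcon c
  have hc2 : ∀ z : ZMod p, ι z ≠ c2 := by
    intro z hz
    apply hc2E
    rw [← hz]
    exact hιK E z
  -- the planes
  let G : F → (ZMod p × ZMod p →+ V) := fun c =>
    { toFun := fun z => e.symm (ι z.1 + ι z.2 * c)
      map_zero' := by simp
      map_add' := by
        intro z z'
        rw [← map_add]
        congr 1
        simp only [Prod.fst_add, Prod.snd_add, map_add]
        ring }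
  have hG : ∀ (c : F) (z : ZMod p × ZMod p), G c z = e.symm (ι z.1 + ι z.2 * c) :=
    fun _ _ => rfl
  have hGinj : ∀ c : F, (∀ z : ZMod p, ι z ≠ c) → Function.Injective (G c) := by
    intro c hc
    rw [injective_iff_map_eq_zero]
    intro z hz
    rw [hG] at hz
    have h1 : ι z.1 + ι z.2 * c = 0 := by
      have h2 := congrArg e hz
      rwa [AddEquiv.apply_symm_apply, map_zero] at h2
    have h3 : z.2 = 0 := by
      by_contra hne
      have h4 : ι z.2 ≠ 0 := fun h0 => hne (hιinj (by rw [h0, map_zero]))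
      apply hc (-z.1 / z.2)
      rw [map_div₀, map_neg, div_eq_iff h4]
      linear_combination -h1
    have h5 : z.1 = 0 := by
      rw [h3, map_zero, zero_mul, add_zero] at h1
      exact hιinj (by rw [h1, map_zero])
    exact Prod.ext h5 h3
  have hcard : ∀ c : F, (∀ z : ZMod p, ι z ≠ c) → Nat.card ↥(G c).range = p ^ 2 := by
    intro c hc
    rw [← Nat.card_congr (AddMonoidHom.ofInjective (hGinj c hc)).toEquiv, Nat.card_prod,
      Nat.card_zmod, pow_two]
  obtain ⟨g, hgΓ, hg⟩ := htr (G c1).range (G c2).range (hcard c1 hc1) (hcard c2 hc2)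
  obtain ⟨a, σ, haσ⟩ := hsl g hgΓ
  have key : ∀ α β : ZMod p, ∃ γ δ : ZMod p,
      a * σ (ι α + ι β * c1) = ι γ + ι δ * c2 := by
    intro α β
    have h1 := hg (G c1 (α, β)) ⟨(α, β), rfl⟩
    obtain ⟨⟨γ, δ⟩, h2⟩ := h1
    refine ⟨γ, δ, ?_⟩
    have h3 := haσ (G c1 (α, β))
    rw [← h2, hG, hG, AddEquiv.apply_symm_apply, AddEquiv.apply_symm_apply] at h3
    exact h3.symm
  obtain ⟨α, β, h1⟩ := key 1 0
  obtain ⟨γ, δ, h2⟩ := key 0 1
  rw [map_one, map_zero, zero_mul, add_zero, map_one, mul_one] at h1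
  rw [map_one, map_zero, zero_add, one_mul] at h2
  -- `a ≠ 0`
  have ha0 : a ≠ 0 := by
    intro h0
    have h3 := haσ (e.symm 1)
    rw [h0, zero_mul] at h3
    have h4 : g (e.symm 1) = 0 := by
      apply e.injective
      rw [h3, map_zero]
    have h5 : e.symm 1 = 0 := by
      apply g.injective
      rw [h4, map_zero]
    have h6 := congrArg e h5
    rw [AddEquiv.apply_symm_apply, map_zero] at h6
    exact one_ne_zero h6
  -- `σ c1 ∈ E` and `σ c1` is not in the prime field
  have he1E : σ c1 ∈ E := ringAut_map_subfield p F E σ c1 hc1E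
  have he1 : ∀ z : ZMod p, ι z ≠ σ c1 := by
    intro z hz
    apply hc1 z
    have h3 : (σ : F →+* F).comp ι = ι := Subsingleton.elim _ _
    have h4 : σ (ι z) = ι z := congrArg (fun f : ZMod p →+* F => f z) h3
    apply σ.injective
    rw [h4, hz]
  -- the final computation
  rw [h1] at h2
  have h3 : c2 * (ι β * σ c1 - ι δ) = ι γ - ι α * σ c1 := by linear_combination h2
  by_cases hne : ι β * σ c1 - ι δ = 0
  · have hβ : β = 0 := by
      by_contra hβ0
      have h4 : ι β ≠ 0 := fun h0 => hβ0 (hιinj (by rw [h0, map_zero]))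
      apply he1 (δ / β)
      rw [map_div₀, div_eq_iff h4]
      linear_combination -hne
    rw [hβ, map_zero, zero_mul, add_zero] at h1
    have hα : ι α ≠ 0 := by rw [← h1]; exact ha0
    rw [hne, mul_zero] at h3
    apply he1 (γ / α)
    rw [map_div₀, div_eq_iff hα]
    linear_combination -h3
  · apply hc2E
    have h4 : c2 = (ι γ - ι α * σ c1) / (ι β * σ c1 - ι δ) := by
      rw [eq_div_iff hne]
      exact h3
    rw [h4]
    exact div_mem (sub_mem (hιK E γ) (mul_mem (hιK E α) he1E))
      (sub_mem (mul_mem (hιK E β) he1E) (hιK E δ))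

end Cfsg.Agent.Lib.Helper43.BG
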