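import Cfsg.Agent.Lib.Helper61.F15Defs

/-!
# S1615 piece P7 (helper43): `tt_W` — in a primitive 3-transposition class, `D_b ⊆ D_c` forces
`b = c`.
-/

set_option autoImplicit false

namespace Cfsg.Agent.Lib.Helper43.F15

open Cfsg Cfsg.Agent.Lib.Helper11 Cfsg.Agent.Lib.Helper61.F15

variable {G : Type*} [Group G] {D : Set G}

/-- conjugation transports neighbourhoods -/
theorem mem_Dn_ttcj (hD : IsThreeTranspositionClass D) (g y u : G) :
    u ∈ Dn D (ttcj g y) ↔ ttcj g⁻¹ u ∈ Dn D y := by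
  constructor
  · rintro ⟨hu, hne, hc⟩
    refine ⟨ttcj_mem hD hu g⁻¹, ?_, (ttcj_commute_iff' g y u).mp hc⟩
    intro h
    apply hne
    rw [← h, ttcj_cancel_inv]
  · rintro ⟨hu, hne, hc⟩
    refine ⟨?_, ?_, (ttcj_commute_iff' g y u).mpr hc⟩
    · have := ttcj_mem hD hu g
      rwa [ttcj_cancel_inv] at this
    · intro h
      apply hne
      rw [h, ttcj_inv_cancel]

theorem tt_W [Finite G] (hP : TTPrim D) {b c : G} (hb : b ∈ D) (hc : c ∈ D)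
    (hsub : ∀ u ∈ D, u ≠ b → Commute u b → u ≠ c ∧ Commute u c) : b = c := by
  have hD := hP.1
  have hsubset : Dn D b ⊆ Dn D c := by
    rintro u ⟨hu, hub, hcomm⟩
    obtain ⟨h1, h2⟩ := hsub u hu hub hcomm.symm
    exact ⟨hu, h1, h2.symm⟩
  obtain ⟨g, hg⟩ := tt_exists_conj hD hb hc
  have hg' : ttcj g b = c := hg
  have hcard : (Dn D b).ncard = (Dn D c).ncard := by
    apply ttcj_ncard g
    · intro u hu
      rw [← hg', mem_Dn_ttcj hD, ttcj_inv_cancel]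
      exact hu
    · intro u hu
      rw [← hg', mem_Dn_ttcj hD] at hu
      exact hu
  have heq : Dn D b = Dn D c :=
    Set.eq_of_subset_of_ncard_le hsubset (le_of_eq hcard.symm) (Set.toFinite _)
  by_contra hbc
  have hBlk : TTBlk {y | y ∈ D ∧ Dn D y = Dn D b} := by
    intro g x hx hgx y hy
    refine ⟨ttcj_mem hD hy.1 g, ?_⟩
    ext u
    have e1 : u ∈ Dn D (ttcj g y) ↔ ttcj g⁻¹ u ∈ Dn D b := by rw [mem_Dn_ttcj hD, hy.2]
    have e2 : u ∈ Dn D (ttcj g x) ↔ u ∈ Dn D b := by rw [hgx.2]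
    have e3 : ttcj g⁻¹ u ∈ Dn D x ↔ ttcj g⁻¹ u ∈ Dn D b := by rw [hx.2]
    exact e1.trans (e3.symm.trans ((mem_Dn_ttcj hD g x u).symm.trans e2))
  have hDB := hP.2.1 {y | y ∈ D ∧ Dn D y = Dn D b} (fun y hy => hy.1) hBlk b ⟨hb, rfl⟩
    c ⟨hc, heq.symm⟩ hbc
  obtain ⟨b', hb'D, hb'ne, hb'c⟩ := hP.2.2.1 b hb
  have h1 : b' ∈ Dn D b := ⟨hb'D, hb'ne, hb'c⟩
  have h2 : Dn D b' = Dn D b := (hDB hb'D).2
  rw [← h2] at h1
  exact h1.2.1 rfl

end Cfsg.Agent.Lib.Helper43.F15
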