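import Mathlib

set_option autoImplicit false

namespace Cfsg.Agent.Lib.Helper43.HeOHOM

/-- PIECE HOM.  A nontrivial endomorphism of a finite simple group is an automorphism. -/
theorem aut_of_hom {G : Type} [Group G] [Finite G] [IsSimpleGroup G] (θ : G →* G) (x : G)
    (hx : θ x ≠ 1) : ∃ τ : MulAut G, ∀ g, τ g = θ g := by
  have hker : θ.ker = ⊥ := by
    rcases (MonoidHom.normal_ker θ).eq_bot_or_eq_top with h | h
    · exact h
    · exfalso
      apply hx
      have : x ∈ θ.ker := by rw [h]; exact Subgroup.mem_top x
      exact (MonoidHom.mem_ker).mp this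
  have hinj : Function.Injective θ := (MonoidHom.ker_eq_bot_iff θ).mp hker
  have hbij : Function.Bijective θ := Finite.injective_iff_bijective.mp hinj
  exact ⟨MulEquiv.ofBijective θ hbij, fun g => rfl⟩

end Cfsg.Agent.Lib.Helper43.HeOHOM
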