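import Mathlib

set_option autoImplicit false

namespace Cfsg.Agent.Lib.Helper43.Kul

universe u


/-- arithmetic: `(p-1) g + 1 = p^e` forces `g = 0`, `g = 1` or `g ≡ 1 + p (mod p²)`. -/
theorem gamma_cases (p g e : ℕ) (hp : p.Prime) (h : (p - 1) * g + 1 = p ^ e) :
    g = 0 ∨ g = 1 ∨ g ≡ 1 + p [MOD p ^ 2] := by
  obtain ⟨q, rfl⟩ : ∃ q, p = q + 1 := ⟨p - 1, by have := hp.one_lt; omega⟩
  have hq : 1 ≤ q := by have := hp.one_lt; omega
  simp only [Nat.add_sub_cancel] at h
  rcases e with _ | _ | e
  · left
    simp only [pow_zero] at h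
    have : q * g = 0 := by omega
    rcases Nat.mul_eq_zero.mp this with h0 | h0
    · omega
    · exact h0
  · right; left
    simp only [zero_add, pow_one] at h
    have : q * g = q * 1 := by omega
    exact Nat.eq_of_mul_eq_mul_left (by omega) this
  · right; right
    rw [← ZMod.natCast_eq_natCast_iff]
    have hP2 : ((q + 1 : ℕ) : ZMod ((q + 1) ^ 2)) ^ 2 = 0 := by
      rw [← Nat.cast_pow]; exact ZMod.natCast_self _
    have h' : ((q * g + 1 : ℕ) : ZMod ((q + 1) ^ 2)) = 0 := by
      rw [h, show e + 1 + 1 = e + 2 from rfl, pow_add, Nat.cast_mul, Nat.cast_pow (q+1) 2, hP2,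
        mul_zero]
    push_cast at h' hP2 ⊢
    linear_combination (-(q + 2 : ZMod ((q + 1) ^ 2))) * h' + (g : ZMod ((q + 1) ^ 2)) * hP2

theorem card_mulZMod (p : ℕ) [Fact p.Prime] : Nat.card (Multiplicative (ZMod p)) = p := by
  rw [Nat.card_congr Multiplicative.toAdd]; exact Nat.card_zmod p

theorem finite_hom (X : Type*) [Group X] [Finite X] (p : ℕ) [Fact p.Prime] :
    Finite (X →* Multiplicative (ZMod p)) :=
  Finite.of_injective (fun f => (f : X → Multiplicative (ZMod p))) DFunLike.coe_injective

theorem card_hom_pow (X : Type*) [Group X] [Finite X] (p : ℕ) [Fact p.Prime] :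
    ∃ e, Nat.card (X →* Multiplicative (ZMod p)) = p ^ e := by
  have := finite_hom X p
  apply IsPGroup.iff_card.mp
  intro f
  refine ⟨1, ?_⟩
  ext x
  rw [pow_one, MonoidHom.pow_apply]
  have := pow_card_eq_one' (G := Multiplicative (ZMod p)) (x := f x)
  rw [card_mulZMod] at this
  rw [this]; rfl

/-- a subgroup of prime index is maximal. -/
theorem eq_of_le_of_index_prime {X : Type*} [Group X] (p : ℕ) (hp : p.Prime) (M K : Subgroup X)
    (hM : M.index = p) (hle : M ≤ K) (hK : K ≠ ⊤) : K = M := by
  have h1 := Subgroup.relIndex_mul_index hle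
  rw [hM] at h1
  have h2 : K.index ∣ p := Dvd.intro_left _ h1
  rcases (Nat.dvd_prime hp).mp h2 with h3 | h3
  · exact absurd (Subgroup.index_eq_one.mp h3) hK
  · rw [h3] at h1
    have h4 : M.relIndex K = 1 := by
      have : M.relIndex K * p = 1 * p := by rw [h1, one_mul]
      exact Nat.eq_of_mul_eq_mul_right hp.pos this
    exact le_antisymm (Subgroup.relIndex_eq_one.mp h4) hle

theorem card_hom_ker_eq {X : Type*} [Group X] [Finite X] (p : ℕ) [hfact : Fact p.Prime]
    (M : Subgroup X) [M.Normal] (hM : M.index = p) [Fintype (X →* Multiplicative (ZMod p))]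
    [DecidablePred (fun f : X →* Multiplicative (ZMod p) => f.ker = M)] :
    (Finset.univ.filter (fun f : X →* Multiplicative (ZMod p) => f.ker = M)).card = p - 1 := by
  classical
  have hp := hfact.out
  have hMtop : M ≠ ⊤ := by
    intro h; rw [h, Subgroup.index_top] at hM; exact hp.one_lt.ne hM
  obtain ⟨x₀, hx₀⟩ : ∃ x₀ : X, x₀ ∉ M := by
    by_contra hcon
    push Not at hcon
    exact hMtop (eq_top_iff.mpr (fun x _ => hcon x))
  set B : Subgroup (X →* Multiplicative (ZMod p)) :=
    (MonoidHom.compHom' (P := Multiplicative (ZMod p)) M.subtype).ker with hB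
  have hmemB : ∀ f : X →* Multiplicative (ZMod p), f ∈ B ↔ M ≤ f.ker := by
    intro f
    rw [hB, MonoidHom.mem_ker]
    constructor
    · intro h x hx
      rw [MonoidHom.mem_ker]
      have := DFunLike.congr_fun h ⟨x, hx⟩
      simpa using this
    · intro h
      ext ⟨x, hx⟩
      have := h hx
      rw [MonoidHom.mem_ker] at this
      simpa using congrArg Multiplicative.toAdd this
  have hone : ∀ f : X →* Multiplicative (ZMod p), f.ker = ⊤ ↔ f = 1 := by
    intro f
    constructor
    · intro h
      ext x
      have : x ∈ f.ker := by rw [h]; trivial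
      rw [MonoidHom.mem_ker] at this
      rw [this]; rfl
    · rintro rfl
      exact MonoidHom.ker_one
  -- evaluation at x₀ is injective on B
  have hcardB : Nat.card B = p := by
    let ev : B →* Multiplicative (ZMod p) := (MonoidHom.eval x₀).comp B.subtype
    have hinj : Function.Injective ev := by
      rw [injective_iff_map_eq_one]
      rintro ⟨f, hf⟩ hfx
      have hfx' : f x₀ = 1 := hfx
      have hle := (hmemB f).mp hf
      have : f = 1 := by
        by_contra hne
        have hk : f.ker ≠ ⊤ := fun h => hne ((hone f).mp h)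
        have := eq_of_le_of_index_prime p hp M f.ker hM hle hk
        apply hx₀
        rw [← this, MonoidHom.mem_ker]; exact hfx'
      exact Subtype.ext this
    have hdvd : Nat.card B ∣ p := by
      have := Subgroup.card_dvd_of_injective ev hinj
      rwa [card_mulZMod] at this
    rcases (Nat.dvd_prime hp).mp hdvd with h1 | h1
    · exfalso
      -- a nontrivial element of B
      have hQ : Nat.card (X ⧸ M) = p := hM
      let ψ : (X ⧸ M) ≃* Multiplicative (ZMod p) :=
        mulEquivOfPrimeCardEq (p := p) hQ (card_mulZMod p)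
      let φ₀ : X →* Multiplicative (ZMod p) := ψ.toMonoidHom.comp (QuotientGroup.mk' M)
      have hφB : φ₀ ∈ B := by
        rw [hmemB]
        intro x hx
        rw [MonoidHom.mem_ker]
        change ψ (x : X ⧸ M) = 1
        rw [(QuotientGroup.eq_one_iff x).mpr hx, map_one]
      have hφ1 : φ₀ ≠ 1 := by
        intro h
        have h2 : ψ (x₀ : X ⧸ M) = 1 := DFunLike.congr_fun h x₀
        have h3 : (x₀ : X ⧸ M) = 1 := by
          apply ψ.injective; rw [h2, map_one]
        exact hx₀ ((QuotientGroup.eq_one_iff x₀).mp h3)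
      have hsub : Subsingleton B := (Nat.card_eq_one_iff_unique.mp h1).1
      have : (⟨φ₀, hφB⟩ : B) = 1 := Subsingleton.elim _ _
      exact hφ1 (congrArg Subtype.val this)
    · exact h1
  have hfilt : Finset.univ.filter (fun f : X →* Multiplicative (ZMod p) => f.ker = M) =
      (Finset.univ.filter (fun f : X →* Multiplicative (ZMod p) => f ∈ B)).erase 1 := by
    ext f
    simp only [Finset.mem_filter, Finset.mem_univ, true_and, Finset.mem_erase]
    constructor
    · intro h
      refine ⟨?_, (hmemB f).mpr h.ge⟩
      intro h1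
      rw [← hone, h] at h1
      exact hMtop h1
    · rintro ⟨h1, h2⟩
      exact eq_of_le_of_index_prime p hp M f.ker hM ((hmemB f).mp h2) (fun h => h1 ((hone f).mp h))
  rw [hfilt, Finset.card_erase_of_mem (by simp [B.one_mem])]
  have : (Finset.univ.filter (fun f : X →* Multiplicative (ZMod p) => f ∈ B)).card = Nat.card B := by
    rw [Nat.card_eq_fintype_card, Fintype.card_subtype]
  rw [this, hcardB]

/-- **Counting maximal subgroups of a `p`-group.** -/
theorem index_p_count {X : Type*} [Group X] [Finite X] (p : ℕ) (hp : p.Prime)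
    (hX : IsPGroup p X) :
    ∃ e, (p - 1) * Nat.card {M : Subgroup X // M.index = p} + 1 = p ^ e := by
  classical
  have hfact : Fact p.Prime := ⟨hp⟩
  have := finite_hom X p
  have := Fintype.ofFinite (X →* Multiplicative (ZMod p))
  have := Fintype.ofFinite (Subgroup X)
  obtain ⟨e, he⟩ := card_hom_pow X p
  refine ⟨e, ?_⟩
  set T : Finset (Subgroup X) := Finset.univ.filter (fun M => M.index = p) with hT
  set S : Finset (X →* Multiplicative (ZMod p)) := Finset.univ.erase 1 with hS
  have hcardT : Nat.card {M : Subgroup X // M.index = p} = T.card := by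
    rw [Nat.card_eq_fintype_card, Fintype.card_subtype]
  have hmaps : (S : Set (X →* Multiplicative (ZMod p))).MapsTo (fun f => f.ker) T := by
    intro f hf
    simp only [hS, Finset.coe_erase, Set.mem_sdiff, Set.mem_singleton_iff] at hf
    simp only [hT, Finset.coe_filter, Finset.mem_univ, true_and, Set.mem_ofPred_eq]
    rw [Subgroup.index_ker]
    have h1 : f.range ≠ ⊥ := by
      intro h
      apply hf.2
      ext x
      have : f x ∈ f.range := ⟨x, rfl⟩
      rw [h, Subgroup.mem_bot] at this
      rw [this]; rfl
    have : Fact (Nat.card (Multiplicative (ZMod p))).Prime := by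
      rw [card_mulZMod]; exact hfact
    rcases Subgroup.eq_bot_or_eq_top_of_prime_card f.range with h2 | h2
    · exact absurd h2 h1
    · rw [h2, Subgroup.card_top, card_mulZMod]
  have h1 := Finset.card_eq_sum_card_fiberwise hmaps
  have h2 : ∀ M ∈ T, (S.filter (fun f => f.ker = M)).card = p - 1 := by
    intro M hM
    have hMi : M.index = p := by simpa [hT] using hM
    have hMn : M.Normal := by
      apply Subgroup.normal_of_index_eq_minFac_card
      rw [hMi]
      obtain ⟨n, hn⟩ := IsPGroup.iff_card.mp hX
      rw [hn]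
      have hn0 : n ≠ 0 := by
        rintro rfl
        rw [pow_zero] at hn
        have := Subgroup.index_dvd_card M
        rw [hn, hMi] at this
        exact hp.one_lt.ne' (Nat.dvd_one.mp this)
      rw [hp.pow_minFac hn0]
    rw [← card_hom_ker_eq p M hMi]
    congr 1
    ext f
    simp only [hS, Finset.mem_filter, Finset.mem_erase, Finset.mem_univ, true_and, and_true]
    constructor
    · exact fun h => h.2
    · intro h
      refine ⟨?_, h⟩
      rintro rfl
      rw [MonoidHom.ker_one] at h
      rw [← h, Subgroup.index_top] at hMi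
      exact hp.one_lt.ne hMi
  rw [Finset.sum_congr rfl h2, Finset.sum_const, smul_eq_mul] at h1
  have h3 : S.card + 1 = p ^ e := by
    rw [hS, Finset.card_erase_of_mem (Finset.mem_univ _), Finset.card_univ, ← Nat.card_eq_fintype_card,
      he]
    have := Nat.one_le_pow e p hp.pos
    omega
  rw [hcardT, mul_comm, ← h1, h3]

end Cfsg.Agent.Lib.Helper43.Kul
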