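import Mathlib
import Cfsg.Agent.Lib.Helper43.KulA

set_option autoImplicit false

namespace Cfsg.Agent.Lib.Helper43.Kul

universe u


theorem card_subtype_filter {α : Type*} [Fintype α] (P : α → Prop) [DecidablePred P] :
    Nat.card {a // P a} = (Finset.univ.filter P).card := by
  rw [Nat.card_eq_fintype_card, Fintype.card_subtype]

/-- subgroups of `H` of a given order correspond to subgroups of `X` inside `H`. -/
theorem card_subgroups_le {X : Type*} [Group X] (H : Subgroup X) (k : ℕ) :
    Nat.card {V : Subgroup ↥H // Nat.card V = k} =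
      Nat.card {U : Subgroup X // Nat.card U = k ∧ U ≤ H} := by
  apply Nat.card_congr
  refine ⟨fun V => ⟨V.1.map H.subtype, ?_, ?_⟩, fun U => ⟨U.1.subgroupOf H, ?_⟩, ?_, ?_⟩
  · rw [Subgroup.card_map_of_injective H.subtype_injective]; exact V.2
  · exact Subgroup.map_subtype_le V.1
  · rw [Nat.card_congr (Subgroup.subgroupOfEquivOfLe U.2.2).toEquiv]; exact U.2.1
  · intro V
    apply Subtype.ext
    exact Subgroup.comap_map_eq_self_of_injective H.subtype_injective V.1
  · intro U
    apply Subtype.ext
    exact Subgroup.map_subgroupOf_eq_of_le U.2.2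

theorem card_eq_card_mul_relIndex {X : Type*} [Group X] {H K : Subgroup X} (h : H ≤ K) :
    Nat.card K = Nat.card H * H.relIndex K := by
  rw [← Subgroup.relIndex_bot_left, ← Subgroup.relIndex_bot_left,
    Subgroup.relIndex_mul_relIndex _ _ _ bot_le h]

/-- in a cyclic group, subgroups of equal order are equal. -/
theorem cyclic_subgroup_unique {X : Type*} [Group X] [Finite X] [IsCyclic X] (U V : Subgroup X)
    (h : Nat.card U = Nat.card V) : U = V := by
  classical
  have := Fintype.ofFinite X
  set d := Nat.card U with hd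
  have hd0 : 0 < d := Nat.card_pos
  have hle := IsCyclic.card_pow_eq_one_le (α := X) hd0
  have key : ∀ W : Subgroup X, Nat.card W = d →
      (W : Set X) = {a : X | a ^ d = 1} := by
    intro W hW
    have hsub : (W : Set X) ⊆ {a : X | a ^ d = 1} := by
      intro a ha
      have : (⟨a, ha⟩ : W) ^ Nat.card W = 1 := pow_card_eq_one'
      rw [hW] at this
      exact congrArg Subtype.val this
    apply Set.eq_of_subset_of_ncard_le hsub
    · have h1 : ({a : X | a ^ d = 1} : Set X).ncard = (Finset.univ.filter (fun a : X => a ^ d = 1)).card := by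
        rw [← Set.ncard_coe_finset]; congr 1; ext a; simp
      rw [h1]
      have h2 : (W : Set X).ncard = d := by
        rw [← hW]; rfl
      rw [h2]; exact hle
  apply SetLike.coe_injective
  rw [key U rfl, key V h.symm]

theorem index_iff_card {X : Type*} [Group X] [Finite X] (p n : ℕ) (hp : p.Prime)
    (hX : Nat.card X = p ^ n) (hn : 1 ≤ n) (M : Subgroup X) :
    M.index = p ↔ Nat.card M = p ^ (n - 1) := by
  have h1 := Subgroup.card_mul_index M
  rw [hX] at h1
  obtain ⟨n', rfl⟩ : ∃ n', n = n' + 1 := ⟨n - 1, by omega⟩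
  simp only [Nat.add_sub_cancel]
  constructor
  · intro h
    rw [h, pow_succ] at h1
    exact Nat.eq_of_mul_eq_mul_right hp.pos h1
  · intro h
    rw [h, pow_succ] at h1
    exact Nat.eq_of_mul_eq_mul_left (pow_pos hp.pos n') h1

theorem normal_of_index_p {X : Type*} [Group X] [Finite X] (p : ℕ) (hp : p.Prime)
    (hX : IsPGroup p X) (M : Subgroup X) (hMi : M.index = p) : M.Normal := by
  have hfact : Fact p.Prime := ⟨hp⟩
  apply Subgroup.normal_of_index_eq_minFac_card
  rw [hMi]
  obtain ⟨n, hn⟩ := IsPGroup.iff_card.mp hX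
  rw [hn]
  have hn0 : n ≠ 0 := by
    rintro rfl
    rw [pow_zero] at hn
    have := Subgroup.index_dvd_card M
    rw [hn, hMi] at this
    exact hp.one_lt.ne' (Nat.dvd_one.mp this)
  rw [hp.pow_minFac hn0]

theorem card_inf_max {X : Type*} [Group X] [Finite X] (p n : ℕ) (hp : p.Prime)
    (hX : Nat.card X = p ^ n) (hn : 2 ≤ n) (M M' : Subgroup X) (hM : M.index = p)
    (hM' : M'.index = p) (hne : M ≠ M') : Nat.card ↥(M ⊓ M') = p ^ (n - 2) := by
  have hXp : IsPGroup p X := IsPGroup.of_card hX
  have hMn : M.Normal := normal_of_index_p p hp hXp M hM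
  have hM'top : M' ≠ ⊤ := by
    intro h; rw [h, Subgroup.index_top] at hM'; exact hp.one_lt.ne hM'
  have hMtop : M ≠ ⊤ := by
    intro h; rw [h, Subgroup.index_top] at hM; exact hp.one_lt.ne hM
  have hsup : M' ⊔ M = ⊤ := by
    by_contra hcon
    have h1 := eq_of_le_of_index_prime p hp M (M' ⊔ M) hM le_sup_right hcon
    have h2 : M' ≤ M := by rw [← h1]; exact le_sup_left
    exact hne (eq_of_le_of_index_prime p hp M' M hM' h2 hMtop)
  have h1 : (M ⊓ M').relIndex M' = p := by
    rw [Subgroup.inf_relIndex_right, ← Subgroup.relIndex_sup_right, hsup,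
      Subgroup.relIndex_top_right, hM]
  have h2 := card_eq_card_mul_relIndex (inf_le_right : M ⊓ M' ≤ M')
  rw [h1, (index_iff_card p n hp hX (by omega) M').mp hM'] at h2
  obtain ⟨n', rfl⟩ : ∃ n', n = n' + 2 := ⟨n - 2, by omega⟩
  simp only [Nat.add_sub_cancel] at h2 ⊢
  rw [show n' + 2 - 1 = n' + 1 by omega, pow_succ] at h2
  exact (Nat.eq_of_mul_eq_mul_right hp.pos h2).symm

end Cfsg.Agent.Lib.Helper43.Kul
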