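import Mathlib
import Cfsg.Agent.Lib.Helper43.KulA
import Cfsg.Agent.Lib.Helper43.KulB
import Cfsg.Agent.S3975
import Cfsg.Agent.S3977
import Cfsg.Agent.S3993
import Cfsg.Agent.S4003

set_option autoImplicit false

namespace Cfsg.Agent.Lib.Helper43.Kul

universe u


/-- double counting of (element, ordered pair of distinct upper bounds). -/
theorem double_pairs {α : Type*} [SemilatticeInf α] [DecidableEq α]
    [DecidableRel (fun a b : α => a ≤ b)] (A B : Finset α) :
    ∑ U ∈ A, (B.filter (fun M => U ≤ M)).card * ((B.filter (fun M => U ≤ M)).card - 1) =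
      ∑ M ∈ B, ∑ M' ∈ B.erase M, (A.filter (fun U => U ≤ M ⊓ M')).card := by
  simp_rw [Finset.card_filter (fun U => U ≤ _ ⊓ _)]
  have h1 : ∀ M ∈ B, ∑ M' ∈ B.erase M, ∑ U ∈ A, (if U ≤ M ⊓ M' then 1 else 0) =
      ∑ U ∈ A, ∑ M' ∈ B.erase M, (if U ≤ M ⊓ M' then 1 else 0) := fun _ _ => Finset.sum_comm
  rw [Finset.sum_congr rfl h1, Finset.sum_comm]
  apply Finset.sum_congr rfl
  intro U _
  have h2 : ∀ M ∈ B, ∑ M' ∈ B.erase M, (if U ≤ M ⊓ M' then 1 else 0) =
      if U ≤ M then ((B.filter (fun M => U ≤ M)).card - 1) else 0 := by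
    intro M hM
    by_cases hUM : U ≤ M
    · rw [if_pos hUM]
      have : ∀ M' ∈ B.erase M, (if U ≤ M ⊓ M' then 1 else 0) = if U ≤ M' then 1 else 0 := by
        intro M' _
        simp [le_inf_iff, hUM]
      rw [Finset.sum_congr rfl this, ← Finset.card_filter, Finset.filter_erase,
        Finset.card_erase_of_mem (by simp [hM, hUM])]
    · rw [if_neg hUM]
      apply Finset.sum_eq_zero
      intro M' _
      rw [if_neg]
      intro h
      exact hUM (h.trans inf_le_left)
  rw [Finset.sum_congr rfl h2, ← Finset.sum_filter, Finset.sum_const, smul_eq_mul]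

/-- the number of cyclic maximal subgroups of a noncyclic `p`-group of order `≥ p³`, `p` odd,
is divisible by `p`. -/
theorem dvd_card_cyclic_max {X : Type u} [Group X] [Finite X] (p n : ℕ) (hp : p.Prime)
    (hodd : p ≠ 2) (hX : Nat.card X = p ^ n) (hn : 3 ≤ n) (hnc : ¬ IsCyclic X)
    [Fintype (Subgroup X)] [DecidablePred (fun M : Subgroup X => M.index = p ∧ IsCyclic ↥M)] :
    p ∣ (Finset.univ.filter (fun M : Subgroup X => M.index = p ∧ IsCyclic ↥M)).card := by
  classical
  have := Fintype.ofFinite X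
  set C := Finset.univ.filter (fun M : Subgroup X => M.index = p ∧ IsCyclic ↥M) with hC
  set E : Finset X := Finset.univ.filter (fun w : X => orderOf w = p ^ (n - 1)) with hE
  have h1 : p ^ (n - 1) ∣ E.card := by
    have := Cfsg.Agent.S4003.pgroup_case p hp hodd (n - 1) (by omega) n X hX hnc
    rwa [card_subtype_filter] at this
  have hmaps : (E : Set X).MapsTo (fun w => Subgroup.zpowers w) C := by
    intro w hw
    have hw' : orderOf w = p ^ (n - 1) := by simpa [hE] using hw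
    simp only [hC, Finset.coe_filter, Finset.mem_univ, true_and, Set.mem_ofPred_eq]
    refine ⟨?_, inferInstance⟩
    rw [index_iff_card p n hp hX (by omega), Nat.card_zpowers, hw']
  have h2 := Finset.card_eq_sum_card_fiberwise hmaps
  have h3 : ∀ M ∈ C, (E.filter (fun w => Subgroup.zpowers w = M)).card =
      p ^ (n - 2) * (p - 1) := by
    intro M hM
    obtain ⟨hMi, hMc⟩ : M.index = p ∧ IsCyclic ↥M := by simpa [hC] using hM
    have hMcard := (index_iff_card p n hp hX (by omega) M).mp hMi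
    obtain ⟨g, hg⟩ := IsCyclic.exists_generator (α := ↥M)
    have hgM : Subgroup.zpowers (g : X) = M := by
      have h4 : Subgroup.zpowers g = ⊤ := eq_top_iff.mpr (fun x _ => hg x)
      have h5 := congrArg (Subgroup.map M.subtype) h4
      rw [MonoidHom.map_zpowers, ← MonoidHom.range_eq_map, Subgroup.range_subtype] at h5
      exact h5
    have hord : orderOf (g : X) = p ^ (n - 1) := by
      rw [← Nat.card_zpowers, hgM, hMcard]
    have h6 : E.filter (fun w => Subgroup.zpowers w = M) =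
        Finset.univ.filter (fun w : X => Subgroup.zpowers w = Subgroup.zpowers (g : X)) := by
      ext w
      simp only [hE, Finset.mem_filter, Finset.mem_univ, true_and, hgM]
      constructor
      · exact fun h => h.2
      · intro h
        refine ⟨?_, h⟩
        rw [← Nat.card_zpowers, h, hMcard]
    rw [h6]
    have h7 := Cfsg.Agent.S3993.ncard_same_zpowers (g : X)
    rw [hord, Nat.totient_prime_pow hp (by omega), show n - 1 - 1 = n - 2 by omega] at h7
    rw [← h7, ← Set.ncard_coe_finset]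
    congr 1
    ext w
    simp
  rw [Finset.sum_congr rfl h3, Finset.sum_const, smul_eq_mul] at h2
  rw [h2] at h1
  obtain ⟨n', rfl⟩ : ∃ n', n = n' + 2 := ⟨n - 2, by omega⟩
  rw [show n' + 2 - 1 = n' + 1 by omega, show n' + 2 - 2 = n' by omega, pow_succ] at h1
  have h4 : p ^ n' * p ∣ p ^ n' * (C.card * (p - 1)) := by
    have : C.card * (p ^ n' * (p - 1)) = p ^ n' * (C.card * (p - 1)) := by ring
    rwa [this] at h1
  have h5 : p ∣ C.card * (p - 1) := Nat.dvd_of_mul_dvd_mul_left (pow_pos hp.pos n') h4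
  rcases (Nat.Prime.dvd_mul hp).mp h5 with h6 | h6
  · exact h6
  · exfalso
    have := Nat.le_of_dvd (by have := hp.one_lt; omega) h6
    have := hp.one_lt
    omega

theorem mul_modEq_of_dvd (p c f : ℕ) (hc : p ∣ c) (hf : f ≡ 1 [MOD p]) :
    c * f ≡ c [MOD p ^ 2] := by
  have h1 : c * f ≡ c * 1 [MOD c * p] := Nat.ModEq.mul_left' c hf
  rw [mul_one] at h1
  exact h1.of_dvd (by rw [pow_two]; exact Nat.mul_dvd_mul_right hc p)

theorem sum_tau {X : Type u} [Group X] [Finite X] (p n k : ℕ) (hp : p.Prime)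
    (hX : Nat.card X = p ^ n) (hk : k + 2 ≤ n) [DecidableEq (Subgroup X)]
    [DecidableRel (fun a b : Subgroup X => a ≤ b)]
    (𝔐 𝔘 : Finset (Subgroup X)) (h𝔐 : ∀ M, M ∈ 𝔐 ↔ M.index = p)
    (h𝔘 : ∀ U, U ∈ 𝔘 ↔ Nat.card U = p ^ k) (M : Subgroup X) (hM : M ∈ 𝔐) :
    ∑ M' ∈ 𝔐.erase M, (𝔘.filter (fun U => U ≤ M ⊓ M')).card + 1 ≡ 𝔐.card [MOD p ^ 2] := by
  have hXp : IsPGroup p X := IsPGroup.of_card hX
  have hMi := (h𝔐 M).mp hM
  have hτ : ∀ D : Subgroup X, Nat.card D = p ^ (n - 2) →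
      (𝔘.filter (fun U => U ≤ D)).card ≡ 1 [MOD p] := by
    intro D hD
    have h1 := Cfsg.Agent.S3975.result (G := ↥D) p k hp
      (by rw [hD]; exact pow_dvd_pow p (by omega))
    rw [card_subgroups_le] at h1
    have h2 : Nat.card {U : Subgroup X // Nat.card U = p ^ k ∧ U ≤ D} =
        (𝔘.filter (fun U => U ≤ D)).card :=
      Nat.subtype_card _ (fun U => by simp [h𝔘])
    rwa [h2] at h1
  have hγ : ∀ D : Subgroup X, D ≠ ⊤ → (𝔐.filter (fun M' => D ≤ M')).card ≡ 1 [MOD p] := by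
    intro D hD
    have h1 := Cfsg.Agent.S4003.card_max_containing p hp hXp D hD
    have h2 : Nat.card {M' : Subgroup X // M'.index = p ∧ D ≤ M'} =
        (𝔐.filter (fun M' => D ≤ M')).card :=
      Nat.subtype_card _ (fun U => by simp [h𝔐])
    rwa [h2] at h1
  set T := 𝔐.erase M with hT
  have h1 := Finset.sum_comp (s := T) (fun D => (𝔘.filter (fun U => U ≤ D)).card)
    (fun M' => M ⊓ M')
  have h2 := Finset.card_eq_sum_card_image (fun M' => M ⊓ M') T
  have h3 : ∀ D ∈ T.image (fun M' => M ⊓ M'),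
      (T.filter (fun M' => M ⊓ M' = D)).card • (𝔘.filter (fun U => U ≤ D)).card ≡
        (T.filter (fun M' => M ⊓ M' = D)).card [MOD p ^ 2] := by
    intro D hD
    obtain ⟨M₁, hM₁, rfl⟩ := Finset.mem_image.mp hD
    have hM₁' : M₁ ≠ M ∧ M₁ ∈ 𝔐 := by simpa [hT] using hM₁
    have hM₁i := (h𝔐 M₁).mp hM₁'.2
    have hDcard : Nat.card ↥(M ⊓ M₁) = p ^ (n - 2) :=
      card_inf_max p n hp hX (by omega) M M₁ hMi hM₁i (Ne.symm hM₁'.1)
    have hDtop : M ⊓ M₁ ≠ ⊤ := by
      intro h
      rw [h, Subgroup.card_top, hX] at hDcard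
      have := Nat.pow_right_injective hp.two_le hDcard
      omega
    have hfib : T.filter (fun M' => M ⊓ M' = M ⊓ M₁) =
        (𝔐.filter (fun M' => M ⊓ M₁ ≤ M')).erase M := by
      ext M'
      simp only [hT, Finset.mem_filter, Finset.mem_erase]
      constructor
      · rintro ⟨⟨h4, h5⟩, h6⟩
        exact ⟨h4, h5, by rw [← h6]; exact inf_le_right⟩
      · rintro ⟨h4, h5, h6⟩
        refine ⟨⟨h4, h5⟩, ?_⟩
        have h7 : Nat.card ↥(M ⊓ M') = p ^ (n - 2) :=
          card_inf_max p n hp hX (by omega) M M' hMi ((h𝔐 M').mp h5) (Ne.symm h4)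
        symm
        apply Subgroup.eq_of_le_of_card_ge (le_inf inf_le_left h6)
        rw [h7, hDcard]
    have hfibcard : p ∣ (T.filter (fun M' => M ⊓ M' = M ⊓ M₁)).card := by
      rw [hfib, Finset.card_erase_of_mem (by simp [hM])]
      have h8 := hγ (M ⊓ M₁) hDtop
      have h9 : 1 ≤ (𝔐.filter (fun M' => M ⊓ M₁ ≤ M')).card :=
        Finset.card_pos.mpr ⟨M, by simp [hM]⟩
      exact (Nat.modEq_iff_dvd' h9).mp h8.symm
    rw [smul_eq_mul]
    exact mul_modEq_of_dvd p _ _ hfibcard (hτ _ hDcard)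
  have h4 := Nat.ModEq.sum h3
  rw [← h1, ← h2] at h4
  have h5 : T.card + 1 = 𝔐.card := by
    rw [hT, Finset.card_erase_of_mem hM]
    have : 1 ≤ 𝔐.card := Finset.card_pos.mpr ⟨M, hM⟩
    omega
  rw [← h5]
  exact h4.add_right 1

end Cfsg.Agent.Lib.Helper43.Kul
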