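import Mathlib
import Cfsg.Agent.Lib.Helper43.KulA
import Cfsg.Agent.Lib.Helper43.KulB
import Cfsg.Agent.Lib.Helper43.KulC
import Cfsg.Agent.S3975
import Cfsg.Agent.S3977
import Cfsg.Agent.S3993
import Cfsg.Agent.S4003

set_option autoImplicit false

namespace Cfsg.Agent.Lib.Helper43.Kul

universe u

theorem exists_eq_one_add_mul (p g : ℕ) (hp : p.Prime) (h : g ≡ 1 [MOD p]) :
    ∃ t, g = 1 + p * t := by
  have hg : 1 ≤ g := by
    by_contra hcon
    have h0 : g = 0 := by omega
    rw [h0] at h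
    have := (Nat.modEq_iff_dvd' (Nat.zero_le 1)).mp h
    exact hp.one_lt.ne' (Nat.dvd_one.mp this)
  obtain ⟨t, ht⟩ := (Nat.modEq_iff_dvd' hg).mp h.symm
  exact ⟨t, by omega⟩

theorem gamma_sq (p g : ℕ) (hp : p.Prime) (h : g ≡ 1 [MOD p]) :
    g * (g - 1) + 1 ≡ g [MOD p ^ 2] := by
  obtain ⟨t, rfl⟩ := exists_eq_one_add_mul p g hp h
  rw [Nat.add_sub_cancel_left, ← ZMod.natCast_eq_natCast_iff]
  have hP2 : ((p : ℕ) : ZMod (p ^ 2)) ^ 2 = 0 := by
    rw [← Nat.cast_pow]; exact ZMod.natCast_self _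
  push_cast
  linear_combination ((t : ZMod (p ^ 2)) ^ 2) * hP2

/-- **Kulakoff's theorem**: a noncyclic `p`-group of order `p ^ n`, `p` odd, has `≡ 1 + p
(mod p²)` subgroups of order `p ^ k` for `1 ≤ k < n`. -/
theorem kulakoff (p : ℕ) (hp : p.Prime) (hodd : p ≠ 2) :
    ∀ (n : ℕ) (X : Type u) [Group X] [Finite X], Nat.card X = p ^ n → ¬ IsCyclic X →
      ∀ k, 1 ≤ k → k < n →
        Nat.card {U : Subgroup X // Nat.card U = p ^ k} ≡ 1 + p [MOD p ^ 2] := by
  intro n
  induction n using Nat.strong_induction_on with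
  | _ n ih =>
  intro X _ _ hX hnc k hk1 hkn
  classical
  have := Fintype.ofFinite (Subgroup X)
  have hfact : Fact p.Prime := ⟨hp⟩
  have hXp : IsPGroup p X := IsPGroup.of_card hX
  set 𝔐 : Finset (Subgroup X) := Finset.univ.filter (fun M => M.index = p) with h𝔐d
  have h𝔐 : ∀ M, M ∈ 𝔐 ↔ M.index = p := fun M => by simp [h𝔐d]
  have hne_top : ∀ U : Subgroup X, ∀ j, j < n → Nat.card U = p ^ j → U ≠ ⊤ := by
    intro U j hj hU h
    rw [h, Subgroup.card_top, hX] at hU
    have := Nat.pow_right_injective hp.two_le hU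
    omega
  have hγ : ∀ D : Subgroup X, D ≠ ⊤ → (𝔐.filter (fun M' => D ≤ M')).card ≡ 1 [MOD p] := by
    intro D hD
    have h1 := Cfsg.Agent.S4003.card_max_containing p hp hXp D hD
    have h2 : Nat.card {M' : Subgroup X // M'.index = p ∧ D ≤ M'} =
        (𝔐.filter (fun M' => D ≤ M')).card :=
      Nat.subtype_card _ (fun U => by simp [h𝔐])
    rwa [h2] at h1
  have hm1 : 𝔐.card ≡ 1 [MOD p] := by
    have h1 := hγ ⊥ (hne_top ⊥ 0 (by omega) (by simp))
    have h2 : 𝔐.filter (fun M' => (⊥ : Subgroup X) ≤ M') = 𝔐 := by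
      apply Finset.filter_true_of_mem
      intro M _; exact bot_le
    rwa [h2] at h1
  obtain ⟨t, ht⟩ := exists_eq_one_add_mul p _ hp hm1
  by_cases hk : k = n - 1
  · have hcount : Nat.card {U : Subgroup X // Nat.card U = p ^ k} = 𝔐.card :=
      Nat.subtype_card _ (fun U => by rw [h𝔐, index_iff_card p n hp hX (by omega), hk])
    rw [hcount]
    obtain ⟨e, he⟩ := index_p_count p hp hXp
    have h3 : Nat.card {M : Subgroup X // M.index = p} = 𝔐.card := Nat.subtype_card _ h𝔐
    rw [h3] at he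
    rcases gamma_cases p _ e hp he with h0 | h1 | h2
    · omega
    · exfalso
      apply hnc
      apply Cfsg.Agent.S3977.result p n (n - 1) hp hX (by omega) (by omega) (Or.inl hodd)
      intro H K hH hK
      have hH' : H ∈ 𝔐 := (h𝔐 H).mpr ((index_iff_card p n hp hX (by omega) H).mpr hH)
      have hK' : K ∈ 𝔐 := (h𝔐 K).mpr ((index_iff_card p n hp hX (by omega) K).mpr hK)
      exact Finset.card_le_one.mp h1.le H hH' K hK'
    · exact h2
  · have hk2 : k + 2 ≤ n := by omega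
    set 𝔘 : Finset (Subgroup X) := Finset.univ.filter (fun U => Nat.card U = p ^ k) with h𝔘d
    have h𝔘 : ∀ U, U ∈ 𝔘 ↔ Nat.card U = p ^ k := fun U => by simp [h𝔘d]
    have hcount : Nat.card {U : Subgroup X // Nat.card U = p ^ k} = 𝔘.card :=
      Nat.subtype_card _ h𝔘
    rw [hcount]
    have hE1 : ∑ U ∈ 𝔘, (𝔐.filter (fun M => U ≤ M)).card =
        ∑ M ∈ 𝔐, (𝔘.filter (fun U => U ≤ M)).card :=
      Finset.sum_card_bipartiteAbove_eq_sum_card_bipartiteBelow (fun U M => U ≤ M)
    have hE2 := double_pairs 𝔘 𝔐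
    have hG : ∀ U ∈ 𝔘, (𝔐.filter (fun M => U ≤ M)).card *
        ((𝔐.filter (fun M => U ≤ M)).card - 1) + 1 ≡
          (𝔐.filter (fun M => U ≤ M)).card [MOD p ^ 2] := by
      intro U hU
      exact gamma_sq p _ hp (hγ U (hne_top U k hkn ((h𝔘 U).mp hU)))
    have hT : ∀ M ∈ 𝔐, ∑ M' ∈ 𝔐.erase M, (𝔘.filter (fun U => U ≤ M ⊓ M')).card + 1 ≡
        𝔐.card [MOD p ^ 2] :=
      fun M hM => sum_tau p n k hp hX hk2 𝔐 𝔘 h𝔐 h𝔘 M hM
    have hS : ∀ M ∈ 𝔐, (𝔘.filter (fun U => U ≤ M)).card + (if IsCyclic ↥M then p else 0) ≡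
        1 + p [MOD p ^ 2] := by
      intro M hM
      have hMi := (h𝔐 M).mp hM
      have hMcard := (index_iff_card p n hp hX (by omega) M).mp hMi
      have h1 : Nat.card {V : Subgroup ↥M // Nat.card V = p ^ k} =
          (𝔘.filter (fun U => U ≤ M)).card := by
        rw [card_subgroups_le]
        exact Nat.subtype_card _ (fun U => by simp [h𝔘])
      by_cases hc : IsCyclic ↥M
      · rw [if_pos hc, ← h1]
        have h2 : Nat.card {V : Subgroup ↥M // Nat.card V = p ^ k} = 1 := by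
          rw [Nat.card_eq_one_iff_unique]
          constructor
          · constructor
            intro V W
            exact Subtype.ext (cyclic_subgroup_unique V.1 W.1 (V.2.trans W.2.symm))
          · obtain ⟨K, hK⟩ := Sylow.exists_subgroup_card_pow_prime (G := ↥M) p (n := k)
              (by rw [hMcard]; exact pow_dvd_pow p (by omega))
            exact ⟨⟨K, hK⟩⟩
        rw [h2]
      · rw [if_neg hc, ← h1, add_zero]
        exact ih (n - 1) (by omega) ↥M hMcard hc k hk1 (by omega)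
    have hc : p ∣ (𝔐.filter (fun M : Subgroup X => IsCyclic ↥M)).card := by
      have := dvd_card_cyclic_max p n hp hodd hX (by omega) hnc
      convert this using 2
      ext M; simp [h𝔐]
    obtain ⟨c', hc'⟩ := hc
    -- sum up
    have sG := Nat.ModEq.sum hG
    have sT := Nat.ModEq.sum hT
    have sS := Nat.ModEq.sum hS
    rw [Finset.sum_add_distrib, Finset.sum_const, smul_eq_mul, mul_one] at sG
    rw [Finset.sum_add_distrib, Finset.sum_const, Finset.sum_const, smul_eq_mul, smul_eq_mul,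
      mul_one] at sT
    rw [Finset.sum_add_distrib, Finset.sum_const, smul_eq_mul, ← Finset.sum_filter,
      Finset.sum_const, smul_eq_mul, hc'] at sS
    rw [hE2] at sG
    rw [hE1] at sG
    rw [← ZMod.natCast_eq_natCast_iff] at sG sT sS ⊢
    have hP2 : ((p : ℕ) : ZMod (p ^ 2)) ^ 2 = 0 := by
      rw [← Nat.cast_pow]; exact ZMod.natCast_self _
    have hm0 : ((𝔐.card : ℕ) : ZMod (p ^ 2)) = 1 + p * t := by
      rw [ht]; push_cast; ring
    push_cast at sG sT sS ⊢
    linear_combination sG + sS - sT + (1 + (p : ZMod (p ^ 2)) - (𝔐.card : ZMod (p ^ 2)) - p * t) * hm0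
      + ((t : ZMod (p ^ 2)) - t ^ 2 - c') * hP2

end Cfsg.Agent.Lib.Helper43.Kul
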