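import Mathlib
import Cfsg.Agent.Lib.Helper11.S983Tools
import Cfsg.Agent.Lib.Helper36.S4274B1
import Cfsg.Agent.Lib.Helper23.Count
import Cfsg.Agent.Lib.Helper76.SylPrime

/-!
# S0983 (helper11), piece N5940: there is no simple group of order 5940

`5940 = 2² · 3³ · 5 · 11`.  `n_11 = 45`, `|C(P)| = 66`, `|N(P)| = 132`; an element of order 3
of `C(P)` fixes exactly 12 Sylow 11-subgroups and centralizes each of them, so its centralizer has
even order; all involutions are conjugate, so `132` divides the order of every involution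
centralizer and there are at most 45 involutions; every element of order 11 is inverted by an
involution, and the dihedral count `11 · 450 ≤ 45 ^ 2` fails.
-/

set_option autoImplicit false

namespace Cfsg.Agent.S983

open Subgroup

set_option maxRecDepth 100000 in
theorem n5940_cands : cands 5940 11 = [(45, 6, 2)] := by decide +kernel

theorem ns5940 {G : Type*} [Group G] [Finite G] [IsSimpleGroup G] (h : Nat.card G = 5940) :
    False := by
  classical
  have hG : ¬ IsMulCommutative G :=
    Cfsg.Agent.Lib.Helper23.not_comm_of_simple_of_not_prime (by rw [h]; norm_num)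
  haveI : Fact (Nat.Prime 11) := ⟨by norm_num⟩
  haveI : Fact (Nat.Prime 3) := ⟨by norm_num⟩
  haveI : Fact (Nat.Prime 2) := ⟨by norm_num⟩
  have h4 : 4 ∣ Nat.card G := by rw [h]; norm_num
  have h8 : ¬ 8 ∣ Nat.card G := by rw [h]; norm_num
  -- step 1
  obtain ⟨d, c, r, hd, hc, hcent, hnorm, hmem⟩ :=
    mem_cands hG (p := 11) h (by norm_num) (by norm_num)
  rw [n5940_cands] at hmem
  simp only [List.mem_singleton, Prod.mk.injEq] at hmem
  obtain ⟨rfl, rfl, rfl⟩ := hmem
  have hexp : ∀ g : G, g ^ 4 = 1 → g ^ 2 = 1 := klein_exp hG h4 h8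
  -- step 2
  obtain ⟨P⟩ : Nonempty (Sylow 11 G) := inferInstance
  obtain ⟨y, hyC, hy1, hy3⟩ := Cfsg.Agent.Lib.Helper76.SylPrime.exists_mem_pow_eq_one
    (centralizer ((P : Subgroup G) : Set G)) 3 (by rw [hcent P]; norm_num)
  have hf1 := Cfsg.Agent.Lib.Helper76.SylPrime.fix_mod P y hyC
  have hf2 := Cfsg.Agent.Lib.Helper76.SylPrime.fix_modEq_of_pow (p := 11) 3 y 1
    (by rw [pow_one]; exact hy3)
  have hf3 := Cfsg.Agent.Lib.Helper76.SylPrime.fix_lt (p := 11) hG (by rw [hd]; norm_num) y hy1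
  rw [hd] at hf2 hf3
  have hf : (MulAction.fixedBy (Sylow 11 G) y).ncard = 12 := by omega
  -- step 3
  have hcentQ : ∀ Q : Sylow 11 G, y • Q = Q → y ∈ centralizer ((Q : Subgroup G) : Set G) := by
    intro Q hyQ
    by_contra hnot
    have h1 := Cfsg.Agent.Lib.Helper76.SylPrime.fix_le_of_not_centralizer hc Q y hyQ hnot
    rw [hf, hd] at h1
    omega
  -- step 4
  have hCy := Cfsg.Agent.Lib.Helper76.SylPrime.card_centralizer_eq P y
    (Cfsg.Agent.Lib.Helper76.SylPrime.smul_eq_of_mem_centralizer P y hyC) hcentQ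
  rw [hf] at hCy
  have h2Cy : 2 ∣ Nat.card (centralizer ({y} : Set G)) := by
    rw [hCy]
    exact Dvd.dvd.mul_right (by norm_num) _
  obtain ⟨t', ht'C, ht'1, ht'2⟩ := Cfsg.Agent.Lib.Helper76.SylPrime.exists_mem_pow_eq_one
    (centralizer ({y} : Set G)) 2 h2Cy
  have hot' : orderOf t' = 2 := orderOf_eq_prime ht'2 ht'1
  have hyt' : y ∈ centralizer ({t'} : Set G) := by
    rw [mem_centralizer_singleton_iff]
    exact (mem_centralizer_singleton_iff.mp ht'C).symm
  have h3Ct' : 3 ∣ Nat.card (centralizer ({t'} : Set G)) :=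
    Cfsg.Agent.Lib.Helper76.SylPrime.dvd_card_of_mem _ 3 y hyt' hy1 hy3
  -- step 5
  obtain ⟨t, htC, ht1, ht2⟩ := Cfsg.Agent.Lib.Helper76.SylPrime.exists_mem_pow_eq_one
    (centralizer ((P : Subgroup G) : Set G)) 2 (by rw [hcent P]; norm_num)
  have hot : orderOf t = 2 := orderOf_eq_prime ht2 ht1
  obtain ⟨g, hg⟩ := klein_conj hG h4 h8 t' t hot' hot
  have hcardC : Nat.card (centralizer ({t} : Set G)) = Nat.card (centralizer ({t'} : Set G)) := by
    rw [← hg]
    exact Cfsg.Agent.S4274T.b1_card_centralizer_conj g t'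
  have h3Ct : 3 ∣ Nat.card (centralizer ({t} : Set G)) := by rw [hcardC]; exact h3Ct'
  obtain ⟨x, hxP, hx1⟩ := Cfsg.Agent.Lib.Helper76.SylPrime.exists_ne_one_mem hc P
  have hx11 := Cfsg.Agent.Lib.Helper76.SylPrime.pow_eq_one hc P x hxP
  have hxt : x ∈ centralizer ({t} : Set G) := by
    rw [mem_centralizer_singleton_iff]
    exact Subgroup.mem_centralizer_iff.mp htC x hxP
  have h11Ct : 11 ∣ Nat.card (centralizer ({t} : Set G)) :=
    Cfsg.Agent.Lib.Helper76.SylPrime.dvd_card_of_mem _ 11 x hxt hx1 hx11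
  have h4Ct : 4 ∣ Nat.card (centralizer ({t} : Set G)) :=
    klein_four_dvd_centralizer hG h4 h8 t hot
  have h132 : 132 ∣ Nat.card (centralizer ({t} : Set G)) := by
    have h12 : 4 * 3 ∣ Nat.card (centralizer ({t} : Set G)) :=
      Nat.Coprime.mul_dvd_of_dvd_of_dvd (by norm_num) h4Ct h3Ct
    have h12' : 12 ∣ Nat.card (centralizer ({t} : Set G)) := h12
    have h132' : 12 * 11 ∣ Nat.card (centralizer ({t} : Set G)) :=
      Nat.Coprime.mul_dvd_of_dvd_of_dvd (by norm_num) h12' h11Ct
    exact h132'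
  have hidx : (centralizer ({t} : Set G)).index ≤ 45 := by
    have hmul := Subgroup.card_mul_index (centralizer ({t} : Set G))
    rw [h] at hmul
    obtain ⟨k, hk⟩ := h132
    rw [hk] at hmul
    have h45 : k * (centralizer ({t} : Set G)).index = 45 := by nlinarith
    have hk0 : 0 < k := by
      rcases Nat.eq_zero_or_pos k with h0 | h0
      · rw [h0] at h45; simp at h45
      · exact h0
    nlinarith
  -- step 6
  have hinv : Nat.card {u : G // orderOf u = 2} ≤ 45 := by
    refine le_trans ?_ hidx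
    rw [← Cfsg.Agent.Lib.Helper23.card_isConj_eq_index t]
    have hconj : ∀ u : {u : G // orderOf u = 2}, IsConj t u.1 := by
      intro u
      obtain ⟨g, hg⟩ := klein_conj hG h4 h8 t u.1 hot u.2
      exact isConj_iff.mpr ⟨g, hg⟩
    apply Nat.card_le_card_of_injective
      (fun u : {u : G // orderOf u = 2} => (⟨u.1, hconj u⟩ : {s : G // IsConj t s}))
    intro a b hab
    have hab' : (a : G) = (b : G) := congrArg (fun z : {s : G // IsConj t s} => (z : G)) hab
    exact Subtype.ext hab'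
  -- step 7
  have hall : ∀ x : G, orderOf x = 11 → ∃ s : G, orderOf s = 2 ∧ s * x * s⁻¹ = x⁻¹ := by
    intro x hx
    obtain ⟨Q, hQ⟩ := Cfsg.Agent.Lib.Helper23.exists_sylow_eq_zpowers (p := 11) (m := 540)
      (by rw [h]) (by norm_num) x hx
    obtain ⟨s, hs, hsx⟩ := exists_inverting_involution 11 hc Q 1 (by simpa using hexp)
      (by rw [hnorm Q]; norm_num) (by rw [hcent Q]; norm_num)
    exact ⟨s, hs, hsx x (by rw [hQ]; exact mem_zpowers x)⟩
  have hcount : Nat.card {x : G // orderOf x = 11 ∧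
      ∃ s : G, orderOf s = 2 ∧ s * x * s⁻¹ = x⁻¹} = 450 := by
    have h1 := Cfsg.Agent.Lib.Helper23.card_orderOf_eq_prime (G := G) (p := 11) (m := 540)
      (by rw [h]) (by norm_num)
    rw [hd] at h1
    rw [← show Nat.card {g : G // orderOf g = 11} = 450 from h1]
    exact Nat.card_congr (Equiv.subtypeEquivRight
      (fun x => ⟨fun hx => hx.1, fun hx => ⟨hx, hall x hx⟩⟩))
  -- step 8
  have hfin := card_inverted_mul_le (G := G) 11 (by norm_num)
  rw [hcount] at hfin
  nlinarith

end Cfsg.Agent.S983
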